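import Cfsg.Agent.H614.Chars
import Cfsg.Agent.CharDeep.CliffordCorr
import Cfsg.Agent.S0900
import Cfsg.Agent.S0188
import Cfsg.Agent.CharactersDeep.BrauerLocal
import Cfsg.Agent.Characters.Values
import Cfsg.Agent.Characters.Linear
import Cfsg.Agent.Nodes.TypeC
import Cfsg.Agent.Nodes.TypeD
import Cfsg.Agent.FastGrp
import Cfsg.Agent.Prune
set_option linter.all false

section
prune_inst 0x7f00000000000000000000000000000000000000000000000000000000000000000000000000000000000000000000000000000000000000000000000000000000000000000000000000000000000000003ffffffffffffffffffff7ffffffbeffbdf3feffff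

-- part: H215/WB/CoxB
section
set_option linter.all false
open scoped Cfsg.Agent.FastGrp

-- part: H215/WB/Sym
section
/-!
# Symmetric groups: elements whose cycle lengths are superincreasing

`SI s` : the multiset `s` can be listed as `k₁, k₂, …` with `kᵢ > kᵢ₊₁ + kᵢ₊₂ + …` (for example distinct powers of `2`).
If the cycle lengths of `w` (with the fixed points) are superincreasing, `φ(w) ∈ {0, 1, -1}` for every irreducible
character `φ`.
-/

set_option autoImplicit false

namespace Cfsg.Agent.H215.WB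

open Finset Cfsg Cfsg.Agent.H614

universe u

variable {m : ℕ}

/-- superincreasing multisets -/
inductive SI : Multiset ℕ → Prop
  | zero : SI 0
  | cons (k : ℕ) (s : Multiset ℕ) (h : SI s) (hk : s.sum < k) : SI (k ::ₘ s)

theorem abs_vac_le (β : Fin m → ℕ) : |vac β| ≤ 1 := by
  unfold vac
  by_cases h : ∃ σ : Equiv.Perm (Fin m), β = fun i => ((σ i : Fin m) : ℕ)
  · obtain ⟨σ, hσ⟩ := h
    rw [Finset.sum_eq_single σ]
    · rw [if_pos hσ]
      rcases Int.units_eq_one_or (Equiv.Perm.sign σ) with h | h <;> simp [sg, h]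
    · intro τ _ hτ
      rw [if_neg]
      intro h
      apply hτ
      ext i
      exact congrFun (h.symm.trans hσ) i
    · intro h
      exact absurd (Finset.mem_univ σ) h
  · rw [Finset.sum_eq_zero]
    · simp
    · intro σ _
      rw [if_neg]
      exact fun h' => h ⟨σ, h'⟩

theorem sum_dn' (β : Fin m → ℕ) {j : Fin m} {k : ℕ} (h : k ≤ β j) : ∑ i, dn β j k i + k = ∑ i, β i := by
  rw [← Finset.add_sum_erase _ _ (Finset.mem_univ j), ← Finset.add_sum_erase Finset.univ β (Finset.mem_univ j), dn_self,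
    Finset.sum_congr rfl fun i hi => dn_ne β k (Finset.ne_of_mem_erase hi)]
  omega

/-- at most one hook of length `k > n / 2` -/
theorem hook_unique {β : Fin m → ℕ} (hβ : Function.Injective β) {n k : ℕ} (hs : ∑ i, β i = n + ∑ i : Fin m, (i : ℕ))
    (hk : n < 2 * k) {i j : Fin m} (hi : k ≤ β i) (hi' : Function.Injective (dn β i k)) (hj : k ≤ β j)
    (hj' : Function.Injective (dn β j k)) : i = j := by
  by_contra hne
  have h1 : k ≤ dn β i k j := by rwa [dn_ne _ _ (Ne.symm hne)]
  have h2 : Function.Injective (dn (dn β i k) j k) := by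
    intro a b hab
    by_cases ha : a = j
    · by_cases hb : b = j
      · rw [ha, hb]
      · exfalso
        subst ha
        rw [dn_self, dn_ne _ _ hb, dn_ne _ _ (Ne.symm hne)] at hab
        by_cases hbi : b = i
        · subst hbi
          rw [dn_self] at hab
          exact hne (hβ (by omega))
        · rw [dn_ne _ _ hbi] at hab
          apply hb
          apply hj'
          rw [dn_ne _ _ hb, dn_self]
          exact hab.symm
    · by_cases hb : b = j
      · exfalso
        subst hb
        rw [dn_self, dn_ne _ _ ha, dn_ne _ _ (Ne.symm hne)] at hab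
        by_cases hai : a = i
        · subst hai
          rw [dn_self] at hab
          exact hne (hβ (by omega))
        · rw [dn_ne _ _ hai] at hab
          apply ha
          apply hj'
          rw [dn_ne _ _ ha, dn_self]
          exact hab
      · rw [dn_ne _ _ ha, dn_ne _ _ hb] at hab
        exact hi' hab
  have h3 := sum_le_of_injective h2
  have h4 := sum_dn' _ h1
  have h5 := sum_dn' _ hi
  omega

theorem abs_FM_le {s : Multiset ℕ} (hs : SI s) : ∀ β : Fin m → ℕ, ∑ i, β i = s.sum + ∑ i : Fin m, (i : ℕ) →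
    |FM s β| ≤ 1 := by
  induction hs with
  | zero => intro β _; rw [FM_zero]; exact abs_vac_le β
  | cons k s _ hk ih =>
    intro β hβ
    by_cases hinj : Function.Injective β
    · rw [Multiset.sum_cons] at hβ
      rw [FM_cons]
      have hz : ∀ j, ¬ (k ≤ β j ∧ Function.Injective (dn β j k)) → (if k ≤ β j then FM s (dn β j k) else 0) = 0 := by
        intro j hj
        by_cases h1 : k ≤ β j
        · rw [if_pos h1]
          exact (FM_alt s).eq_zero_of_not_injective two_torsion_int fun h2 => hj ⟨h1, h2⟩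
        · rw [if_neg h1]
      by_cases h : ∃ j, k ≤ β j ∧ Function.Injective (dn β j k)
      · obtain ⟨j, hj1, hj2⟩ := h
        rw [Finset.sum_eq_single j]
        · rw [if_pos hj1]
          refine ih _ ?_
          have h4 := sum_dn' _ hj1
          omega
        · intro i _ hij
          refine hz i ?_
          rintro ⟨hi1, hi2⟩
          exact hij (hook_unique hinj hβ (by omega) hi1 hi2 hj1 hj2)
        · intro h
          exact absurd (Finset.mem_univ j) h
      · rw [Finset.sum_eq_zero]
        · simp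
        · intro j _
          exact hz j fun hj => h ⟨j, hj⟩
    · rw [(FM_alt _).eq_zero_of_not_injective two_torsion_int hinj]
      simp

/-- **`|φ(w)| ≤ 1`** -/
theorem sym {α : Type u} [Fintype α] [DecidableEq α] {χ : Equiv.Perm α → ℂ} (hχ : IsIrrCharacter (Equiv.Perm α) χ)
    {w : Equiv.Perm α} (hw : SI w.partition.parts) : χ w = 0 ∨ χ w = 1 ∨ χ w = -1 := by
  obtain ⟨β, -, h2, rfl⟩ := irr_eq (m := Fintype.card α) le_rfl hχ
  rw [ch_apply]
  have h3 : |FM (ty w) β| ≤ 1 := by
    refine abs_FM_le hw β ?_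
    rw [h2, w.partition.parts_sum]
  rw [abs_le] at h3
  have h4 : FM (ty w) β = 0 ∨ FM (ty w) β = 1 ∨ FM (ty w) β = -1 := by omega
  rcases h4 with h | h | h
  · exact Or.inl (by rw [h]; norm_num)
  · exact Or.inr (Or.inl (by rw [h]; norm_num))
  · exact Or.inr (Or.inr (by rw [h]; norm_num))

end Cfsg.Agent.H215.WB
end

-- part: H215/WB/Cliff
section
/-!
# Clifford theory for `N ⋊ S`, `N` abelian

`cliff` : if, for every linear character `θ` of `N`, all `S`-conjugates of `w` in the stabilizer of `θ` are conjugate in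
it (in the strong form `hU`), then the value `χ(w)` of an irreducible character is `0` or the value of an irreducible
character of the stabilizer at a conjugate of `w`.
-/

set_option autoImplicit false
set_option linter.unusedSectionVars false

namespace Cfsg.Agent.H215.WB

open Cfsg Cfsg.Agent.Characters.Core
open scoped ComplexConjugate

variable {N S : Type*} [CommGroup N] [Group S] [Finite N] [Finite S] {φ : S →* MulAut N}

/-- the stabilizer of a linear character -/
def stab (φ : S →* MulAut N) (θ : N →* ℂˣ) : Subgroup S where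
  carrier := {s | ∀ n, θ (φ s n) = θ n}
  mul_mem' := by
    intro a b ha hb n
    rw [map_mul, MulAut.mul_apply, ha, hb]
  one_mem' := by
    intro n
    rw [map_one, MulAut.one_apply]
  inv_mem' := by
    intro a ha n
    rw [← ha (φ a⁻¹ n), ← MulAut.mul_apply, ← map_mul, mul_inv_cancel, map_one, MulAut.one_apply]

theorem mem_stab {θ : N →* ℂˣ} {s : S} : s ∈ stab φ θ ↔ ∀ n, θ (φ s n) = θ n := Iff.rfl

/-- Inner products and bijections. -/
theorem classInner_equiv {A : Type*} {B : Type*} [Group A] [Group B] [Fintype A] [Fintype B]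
    (e : A ≃ B) (f g : B → ℂ) : classInner (fun a => f (e a)) (fun a => g (e a)) = classInner f g := by
  rw [classInner_def, classInner_def, Nat.card_congr e]
  congr 1
  exact Fintype.sum_equiv e _ _ fun a => rfl

theorem exists_constituent {G : Type*} [Group G] [Fintype G] (N : Subgroup G) [Fintype N] {χ : G → ℂ}
    (hχ : IsIrrCharacter G χ) : ∃ ψ : IrrCharacter N, classInner (fun n : N => χ n) (ψ : N → ℂ) ≠ 0 := by
  classical
  by_contra hno
  push Not at hno
  have : Finite (IrrCharacter N) := finite_irr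
  let _ : Fintype (IrrCharacter N) := Fintype.ofFinite _
  have h1 : IsCharacter N (fun n : N => χ n) :=
    Characters.Clifford.isCharacter_restrict N (isIrr_isCharacter hχ)
  have h2 := classFunction_eq_sum (isCharacter_isClassFunction h1)
  have h3 := congrFun h2 1
  rw [Finset.sum_apply, Finset.sum_eq_zero (fun ψ _ => by rw [hno ψ, zero_smul]; rfl)] at h3
  exact isIrr_apply_one_ne_zero hχ h3

/-- a normal abelian subgroup acting by multiples of one linear character acts by scalars -/
theorem scalar {T : Type*} [Group T] [Finite T] {ψ : T → ℂ} (hψ : IsIrrCharacter T ψ) {n : T} {c : ℂ} {e : ℕ}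
    (hc : ‖c‖ = 1) (h1 : ψ 1 = e) (hn : ψ n = e * c) (t : T) : ψ (n * t) = c * ψ t := by
  obtain ⟨d, ρ, hρ, rfl⟩ := hψ
  have hd : (Module.finrank ℂ (Fin d → ℂ) : ℂ) = e := by
    rw [← h1, Representation.char_one]
  have hd' : Module.finrank ℂ (Fin d → ℂ) = e := by exact_mod_cast hd
  have he : (e : ℂ) ≠ 0 := by
    have h2 := isIrr_apply_one_ne_zero (⟨d, ρ, hρ, rfl⟩ : IsIrrCharacter T ρ.character)
    rwa [h1] at h2
  have h2 : ‖ρ.character n‖ = (Module.finrank ℂ (Fin d → ℂ) : ℝ) := by
    rw [hn, norm_mul, hc, mul_one, hd', Complex.norm_natCast]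
  obtain ⟨w, hw⟩ := (Characters.Values.norm_character_eq_iff ρ n).1 h2
  have h3 : w = c := by
    have h4 : ρ.character n = w * (Module.finrank ℂ (Fin d → ℂ) : ℂ) := by
      rw [Representation.character, hw, map_smul, LinearMap.trace_id, smul_eq_mul]
    rw [hn, hd, mul_comm] at h4
    exact (mul_right_cancel₀ he h4).symm
  rw [Representation.character, map_mul, hw, h3, ← Module.End.one_eq_id, smul_mul_assoc, one_mul, map_smul, smul_eq_mul]
  rfl

theorem indFun_eq {G : Type*} [Group G] [Fintype G] (T : Subgroup G) [Fintype T] {ψ : T → ℂ} (hψ : IsClassFunction T ψ)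
    {g h : G} (hh : h⁻¹ * g * h ∈ T) (hU : ∀ x, x⁻¹ * g * x ∈ T → h⁻¹ * x ∈ T) :
    indFun T ψ g = ψ ⟨h⁻¹ * g * h, hh⟩ := by
  classical
  unfold indFun
  have h1 : ∑ x : G, extendByZero T ψ (x⁻¹ * g * x) = ∑ x : T, ψ ⟨h⁻¹ * g * h, hh⟩ := by
    rw [← Equiv.sum_comp (Equiv.mulLeft h)]
    have h2 : ∀ y : G, y ∉ T → extendByZero T ψ ((Equiv.mulLeft h y)⁻¹ * g * (Equiv.mulLeft h y)) = 0 := by
      intro y hy
      refine extendByZero_of_notMem T ψ fun h3 => hy ?_
      have h4 := hU _ h3
      rwa [Equiv.coe_mulLeft, inv_mul_cancel_left] at h4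
    have h5 : ∀ y : T, extendByZero T ψ ((Equiv.mulLeft h (y : G))⁻¹ * g * (Equiv.mulLeft h (y : G))) =
        ψ ⟨h⁻¹ * g * h, hh⟩ := by
      intro y
      have h6 : (Equiv.mulLeft h (y : G))⁻¹ * g * (Equiv.mulLeft h (y : G)) = (y : G)⁻¹ * (h⁻¹ * g * h) * y := by
        rw [Equiv.coe_mulLeft, mul_inv_rev]
        group
      rw [h6, extendByZero_of_mem T ψ (T.mul_mem (T.mul_mem (T.inv_mem y.2) hh) y.2)]
      have h7 := hψ ⟨h⁻¹ * g * h, hh⟩ y⁻¹
      rw [inv_inv] at h7
      rw [← h7]
      rfl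
    rw [← Finset.sum_congr rfl fun y (_ : y ∈ (Finset.univ : Finset T)) => h5 y]
    rw [← Finset.sum_subset (Finset.subset_univ (Finset.univ.filter fun y : G => y ∈ T))]
    · exact Finset.sum_bij' (fun y hy => (⟨y, (Finset.mem_filter.1 hy).2⟩ : T)) (fun y _ => (y : G))
        (fun _ _ => Finset.mem_univ _) (fun y _ => Finset.mem_filter.2 ⟨Finset.mem_univ _, y.2⟩) (fun _ _ => rfl)
        (fun _ _ => rfl) (fun _ _ => rfl)
    · intro y _ hy
      exact h2 y fun h => hy (Finset.mem_filter.2 ⟨Finset.mem_univ _, h⟩)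
  rw [h1, Finset.sum_const, Finset.card_univ, ← Nat.card_eq_fintype_card, nsmul_eq_mul, inv_mul_cancel_left₀]
  exact_mod_cast Nat.card_pos.ne'

theorem conj_inl (g : N ⋊[φ] S) (m : N) :
    g * SemidirectProduct.inl m * g⁻¹ = SemidirectProduct.inl (φ g.right m) := by
  refine SemidirectProduct.ext ?_ ?_
  · simp only [SemidirectProduct.mul_left, SemidirectProduct.left_inl, SemidirectProduct.mul_right,
      SemidirectProduct.right_inl, mul_one, SemidirectProduct.inv_left, ← MulAut.mul_apply, ← map_mul, mul_inv_cancel,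
      map_one, MulAut.one_apply]
    rw [mul_comm g.left, mul_assoc, mul_inv_cancel, mul_one]
  · simp

theorem norm_hom (θ : N →* ℂˣ) (n : N) : ‖((θ n : ℂˣ) : ℂ)‖ = 1 := by
  refine Complex.norm_eq_one_of_pow_eq_one (n := Nat.card N) ?_ Nat.card_pos.ne'
  rw [← Units.val_pow_eq_pow_val, ← map_pow, pow_card_eq_one', map_one, Units.val_one]

theorem cliff [Fintype (N ⋊[φ] S)] {χ : N ⋊[φ] S → ℂ} (hχ : IsIrrCharacter (N ⋊[φ] S) χ) (w : S)
    (hU : ∀ (θ : N →* ℂˣ) (x y : S), x⁻¹ * w * x ∈ stab φ θ → y⁻¹ * w * y ∈ stab φ θ → x⁻¹ * y ∈ stab φ θ)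
    (h0 : χ (SemidirectProduct.inr w) ≠ 0) :
    ∃ (θ : N →* ℂˣ) (h : S) (hh : h⁻¹ * w * h ∈ stab φ θ) (ψ : stab φ θ → ℂ),
      IsIrrCharacter (stab φ θ) ψ ∧ χ (SemidirectProduct.inr w) = ψ ⟨h⁻¹ * w * h, hh⟩ := by
  classical
  set K : Subgroup (N ⋊[φ] S) := (SemidirectProduct.inl : N →* N ⋊[φ] S).range with hKdef
  have hKn : K.Normal := by
    rw [hKdef, SemidirectProduct.range_inl_eq_ker_rightHom]
    infer_instance
  have iN : Fintype N := Fintype.ofFinite N
  have iK : Fintype K := Fintype.ofFinite K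
  obtain ⟨ψK, hcon⟩ := exists_constituent K hχ
  have hKc : IsMulCommutative K := by
    refine ⟨⟨?_⟩⟩
    rintro ⟨_, a, rfl⟩ ⟨_, b, rfl⟩
    apply Subtype.ext
    change SemidirectProduct.inl a * SemidirectProduct.inl b = SemidirectProduct.inl b * SemidirectProduct.inl a
    rw [← map_mul, ← map_mul, mul_comm]
  have hone : (ψK : K → ℂ) 1 = 1 := by
    have h1 := Cfsg.Agent.CharactersDeep.BrauerLocal.irr_mul ψK.2 1 1
    rw [mul_one] at h1
    have h2 := isIrr_apply_one_ne_zero ψK.2
    exact mul_left_cancel₀ h2 (by rw [mul_one]; exact h1.symm)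
  obtain ⟨f, hf⟩ := Characters.Linear.exists_hom_of_isIrrCharacter ψK.2 hone
  set θ : N →* ℂˣ := f.comp (SemidirectProduct.inl : N →* N ⋊[φ] S).rangeRestrict with hθ
  have hψK : ∀ n : N, (ψK : K → ℂ) ⟨SemidirectProduct.inl n, ⟨n, rfl⟩⟩ = (θ n : ℂˣ) := fun n => congrFun hf _
  set T : Subgroup (N ⋊[φ] S) := (stab φ θ).comap SemidirectProduct.rightHom with hT
  have hTm : ∀ g : N ⋊[φ] S, g ∈ T ↔ g.right ∈ stab φ θ := fun g => Iff.rfl
  have iT : Fintype T := Fintype.ofFinite T
  have hTc : ∀ g : N ⋊[φ] S, g ∈ T ↔ ∀ n : K, (ψK : K → ℂ) ⟨g * n * g⁻¹, hKn.conj_mem (n : N ⋊[φ] S) n.2 g⟩ =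
      (ψK : K → ℂ) n := by
    intro g
    have h1 : ∀ m : N, (ψK : K → ℂ) ⟨g * (⟨SemidirectProduct.inl m, ⟨m, rfl⟩⟩ : K) * g⁻¹,
        hKn.conj_mem _ ⟨m, rfl⟩ g⟩ = (θ (φ g.right m) : ℂˣ) := by
      intro m
      have h2 : (⟨g * (⟨SemidirectProduct.inl m, ⟨m, rfl⟩⟩ : K) * g⁻¹, hKn.conj_mem _ ⟨m, rfl⟩ g⟩ : K) =
          ⟨SemidirectProduct.inl (φ g.right m), ⟨_, rfl⟩⟩ := Subtype.ext (conj_inl g m)
      rw [h2, hψK]
    rw [hTm, mem_stab]
    constructor
    · rintro h ⟨_, m, rfl⟩
      rw [h1, h, hψK]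
    · intro h m
      have h2 := h ⟨SemidirectProduct.inl m, ⟨m, rfl⟩⟩
      rw [h1, hψK] at h2
      exact Units.ext h2
  have hKT : K ≤ T := by
    rintro _ ⟨m, rfl⟩
    rw [hTm, SemidirectProduct.right_inl]
    exact one_mem _
  obtain ⟨ψ, hψ, hind, hψθ⟩ := CharDeep.CliffordCorr.clifford_correspondence K (ψK : K → ℂ) ψK.2 T hTc hKT χ hχ hcon
  -- the restriction to `K`
  have iKT : Fintype (K.subgroupOf T) := Fintype.ofFinite _
  let e := Subgroup.subgroupOfEquivOfLe hKT
  obtain ⟨d, hd⟩ := S0900.restrict_eq_smul (K.subgroupOf T) ψ hψ (fun k => (ψK : K → ℂ) (e k))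
    (isIrr_comp e.toMonoidHom e.surjective ψK.2) (by
      have h1 := classInner_equiv e.toEquiv (fun n : K => ψ ⟨(n : N ⋊[φ] S), hKT n.2⟩) (ψK : K → ℂ)
      have h2 : classInner (fun n : K.subgroupOf T => ψ n) (fun k => (ψK : K → ℂ) (e k)) =
          classInner (fun n : K => ψ ⟨(n : N ⋊[φ] S), hKT n.2⟩) (ψK : K → ℂ) := h1
      rw [h2, hψθ]
      exact hcon) (by
      intro g n
      have h1 := (hTc (g : N ⋊[φ] S)).1 g.2 (e n)
      exact h1)
  let i : N → T := fun n => ⟨SemidirectProduct.inl n, hKT ⟨n, rfl⟩⟩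
  have hi : ∀ n, ψ (i n) = d * (θ n : ℂˣ) := by
    intro n
    have h1 := congrFun hd ⟨i n, ⟨n, rfl⟩⟩
    rw [← hψK]
    exact h1
  have hψ1 : ψ 1 = d := by
    have h1 := hi 1
    rw [map_one, Units.val_one, mul_one] at h1
    rw [← h1]
    have h2 : i 1 = 1 := Subtype.ext (map_one _)
    rw [h2]
  have hsc : ∀ n t, ψ (i n * t) = (θ n : ℂˣ) * ψ t := fun n t => scalar hψ (norm_hom θ n) hψ1 (hi n) t
  -- the restriction to the stabilizer
  let j : stab φ θ →* T :=
    { toFun := fun s => ⟨SemidirectProduct.inr (s : S), by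
        rw [hTm, SemidirectProduct.right_inr]
        exact s.2⟩
      map_one' := Subtype.ext (map_one _)
      map_mul' := fun a b => Subtype.ext (map_mul _ _ _) }
  have iS : Fintype (stab φ θ) := Fintype.ofFinite _
  let E : N × stab φ θ ≃ T :=
    { toFun := fun x => i x.1 * j x.2
      invFun := fun t => (t.1.left, ⟨t.1.right, t.2⟩)
      left_inv := by
        rintro ⟨n, s⟩
        refine Prod.ext ?_ (Subtype.ext ?_)
        · change (SemidirectProduct.inl n * SemidirectProduct.inr (s : S) : N ⋊[φ] S).left = n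
          simp
        · change (SemidirectProduct.inl n * SemidirectProduct.inr (s : S) : N ⋊[φ] S).right = s
          simp
      right_inv := fun t => Subtype.ext (SemidirectProduct.inl_left_mul_inr_right t.1) }
  have hirr : IsIrrCharacter (stab φ θ) (ψ ∘ j) := by
    rw [isIrr_iff_classInner_self (isCharacter_comp j (isIrr_isCharacter hψ))]
    have h1 := (isIrr_iff_classInner_self (isIrr_isCharacter hψ)).1 hψ
    rw [classInner_def, ← Equiv.sum_comp E, Fintype.sum_prod_type] at h1
    have h2 : ∀ n : N, ∑ s : stab φ θ, ψ (E (n, s)) * conj (ψ (E (n, s))) =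
        ∑ s : stab φ θ, (ψ ∘ j) s * conj ((ψ ∘ j) s) := by
      intro n
      refine Finset.sum_congr rfl fun s _ => ?_
      have h3 : ψ (E (n, s)) = (θ n : ℂˣ) * ψ (j s) := hsc n (j s)
      rw [h3, map_mul]
      have h4 : ((θ n : ℂˣ) : ℂ) * conj ((θ n : ℂˣ) : ℂ) = 1 := by
        rw [Complex.mul_conj, Complex.normSq_eq_norm_sq, norm_hom]
        norm_num
      calc ((θ n : ℂˣ) : ℂ) * ψ (j s) * (conj ((θ n : ℂˣ) : ℂ) * conj (ψ (j s))) =
          (((θ n : ℂˣ) : ℂ) * conj ((θ n : ℂˣ) : ℂ)) * (ψ (j s) * conj (ψ (j s))) := by ring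
        _ = _ := by rw [h4, one_mul]; rfl
    rw [Finset.sum_congr rfl fun n _ => h2 n, Finset.sum_const, Finset.card_univ, ← Nat.card_congr E, Nat.card_prod,
      nsmul_eq_mul, ← Nat.card_eq_fintype_card] at h1
    rw [classInner_def, ← h1]
    have h5 : (Nat.card N : ℂ) ≠ 0 := by exact_mod_cast Nat.card_pos.ne'
    push_cast
    rw [mul_inv]
    field_simp
  have hχw : χ (SemidirectProduct.inr w) = indFun T ψ (SemidirectProduct.inr w) := by rw [hind]
  have hex : ∃ x : N ⋊[φ] S, x⁻¹ * SemidirectProduct.inr w * x ∈ T := by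
    by_contra hcon2
    push Not at hcon2
    apply h0
    rw [hχw]
    unfold indFun
    rw [Finset.sum_eq_zero fun x _ => extendByZero_of_notMem T ψ (hcon2 x), mul_zero]
  obtain ⟨x, hx⟩ := hex
  have hr : ∀ x : N ⋊[φ] S, x⁻¹ * SemidirectProduct.inr w * x ∈ T ↔ x.right⁻¹ * w * x.right ∈ stab φ θ := by
    intro x
    rw [hTm]
    simp
  have hh := (hr x).1 hx
  have hh' : (SemidirectProduct.inr x.right : N ⋊[φ] S)⁻¹ * SemidirectProduct.inr w * SemidirectProduct.inr x.right ∈ T := by
    rw [hTm]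
    simpa using hh
  refine ⟨θ, x.right, hh, ψ ∘ j, hirr, ?_⟩
  rw [hχw, indFun_eq T (isIrr_isClassFunction hψ) hh']
  · change ψ _ = ψ _
    congr 1
    apply Subtype.ext
    change _ = SemidirectProduct.inr (x.right⁻¹ * w * x.right)
    rw [map_mul, map_mul, map_inv]
  · intro y hy
    have h1 := hU θ x.right y.right hh ((hr y).1 hy)
    rw [hTm]
    simpa using h1

end Cfsg.Agent.H215.WB
end

-- part: H215/WB/Bn
section
/-!
# Signed permutations: `φ(w) ∈ {0, 1, -1}` if the cycle lengths of `w ∈ S_n` are superincreasing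
-/

set_option autoImplicit false
set_option linter.unusedSectionVars false

namespace Cfsg.Agent.H215.WB

open Finset Cfsg Cfsg.Agent.Characters.Core

universe u

/-! ### superincreasing multisets -/

theorem SI.le {s : Multiset ℕ} (h : SI s) : ∀ {t : Multiset ℕ}, t ≤ s → SI t := by
  induction h with
  | zero =>
    intro t ht
    rw [Multiset.le_zero.1 ht]
    exact SI.zero
  | cons k s _ hk ih =>
    intro t ht
    by_cases hkt : k ∈ t
    · obtain ⟨t', rfl⟩ := Multiset.exists_cons_of_mem hkt
      have h1 : t' ≤ s := (Multiset.cons_le_cons_iff k).1 ht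
      refine SI.cons k t' (ih h1) (lt_of_le_of_lt ?_ hk)
      obtain ⟨r, rfl⟩ := Multiset.le_iff_exists_add.1 h1
      rw [Multiset.sum_add]
      exact Nat.le_add_right _ _
    · exact ih ((Multiset.le_cons_of_notMem hkt).1 ht)

theorem sum_le_of_le {s t : Multiset ℕ} (h : t ≤ s) : t.sum ≤ s.sum := by
  obtain ⟨r, rfl⟩ := Multiset.le_iff_exists_add.1 h
  rw [Multiset.sum_add]
  exact Nat.le_add_right _ _

theorem SI.sum_eq {s : Multiset ℕ} (h : SI s) : ∀ {t₁ t₂ : Multiset ℕ}, t₁ + t₂ ≤ s → t₁.sum = t₂.sum → t₁.sum = 0 := by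
  induction h with
  | zero =>
    intro t₁ t₂ ht _
    have h1 := sum_le_of_le ht
    rw [Multiset.sum_add, Multiset.sum_zero] at h1
    omega
  | cons k s _ hk ih =>
    intro t₁ t₂ ht he
    by_cases h1 : k ∈ t₁
    · exfalso
      obtain ⟨t', rfl⟩ := Multiset.exists_cons_of_mem h1
      rw [Multiset.cons_add, Multiset.cons_le_cons_iff] at ht
      have h2 := sum_le_of_le ht
      rw [Multiset.sum_add] at h2
      rw [Multiset.sum_cons] at he
      omega
    · by_cases h2 : k ∈ t₂
      · exfalso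
        obtain ⟨t', rfl⟩ := Multiset.exists_cons_of_mem h2
        rw [Multiset.add_cons, Multiset.cons_le_cons_iff] at ht
        have h2 := sum_le_of_le ht
        rw [Multiset.sum_add] at h2
        rw [Multiset.sum_cons] at he
        omega
      · refine ih ((Multiset.le_cons_of_notMem ?_).1 ht) he
        rw [Multiset.mem_add]
        tauto

/-! ### cycle lengths -/

section Ty

variable {α : Type u} [Fintype α] [DecidableEq α]

/-- cycle lengths, with the fixed points -/
abbrev tp (g : Equiv.Perm α) : Multiset ℕ := g.partition.parts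

theorem tp_eq (g : Equiv.Perm α) : tp g = g.cycleType + Multiset.replicate (Fintype.card α - g.cycleType.sum) 1 := by
  rw [tp, Equiv.Perm.parts_partition, Equiv.Perm.sum_cycleType]

theorem tp_sum (g : Equiv.Perm α) : (tp g).sum = Fintype.card α := g.partition.parts_sum

theorem subtypeCongr_eq (p : α → Prop) [DecidablePred p] (u : Equiv.Perm {a // p a}) (v : Equiv.Perm {a // ¬ p a}) :
    u.subtypeCongr v = Equiv.Perm.ofSubtype u * Equiv.Perm.ofSubtype v := by
  ext x
  rw [Equiv.Perm.mul_apply]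
  by_cases h : p x
  · have h1 : ¬ ¬ p x := not_not.2 h
    rw [Equiv.Perm.ofSubtype_apply_of_not_mem v h1, Equiv.Perm.ofSubtype_apply_of_mem u h,
      Equiv.Perm.subtypeCongr.left_apply _ _ h]
  · rw [Equiv.Perm.ofSubtype_apply_of_mem v h, Equiv.Perm.ofSubtype_apply_of_not_mem u (v ⟨x, h⟩).2,
      Equiv.Perm.subtypeCongr.right_apply _ _ h]

theorem tp_subtypeCongr (p : α → Prop) [DecidablePred p] (u : Equiv.Perm {a // p a}) (v : Equiv.Perm {a // ¬ p a}) :
    tp (u.subtypeCongr v) = tp u + tp v := by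
  have hd : (Equiv.Perm.ofSubtype u : Equiv.Perm α).Disjoint (Equiv.Perm.ofSubtype v) := by
    intro x
    by_cases h : p x
    · exact Or.inr (Equiv.Perm.ofSubtype_apply_of_not_mem v (not_not.2 h))
    · exact Or.inl (Equiv.Perm.ofSubtype_apply_of_not_mem u h)
  have h1 : (u.subtypeCongr v).cycleType = u.cycleType + v.cycleType := by
    rw [subtypeCongr_eq, hd.cycleType_mul, Equiv.Perm.cycleType_ofSubtype, Equiv.Perm.cycleType_ofSubtype]
  have h2 : Fintype.card α = Fintype.card {a // p a} + Fintype.card {a // ¬ p a} := by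
    have := Fintype.card_subtype_compl p
    have := Fintype.card_subtype_le p
    omega
  have h3 : u.cycleType.sum ≤ Fintype.card {a // p a} := by
    rw [Equiv.Perm.sum_cycleType]
    exact Finset.card_le_univ _
  have h4 : v.cycleType.sum ≤ Fintype.card {a // ¬ p a} := by
    rw [Equiv.Perm.sum_cycleType]
    exact Finset.card_le_univ _
  rw [tp_eq, tp_eq u, tp_eq v, h1, Multiset.sum_add, h2]
  have h5 : Fintype.card {a // p a} + Fintype.card {a // ¬ p a} - (u.cycleType.sum + v.cycleType.sum) =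
      (Fintype.card {a // p a} - u.cycleType.sum) + (Fintype.card {a // ¬ p a} - v.cycleType.sum) := by omega
  rw [h5, Multiset.replicate_add]
  abel

theorem mem_range_iff (p : α → Prop) [DecidablePred p] (w : Equiv.Perm α) :
    w ∈ (Equiv.Perm.subtypeCongrHom p).range ↔ ∀ x, p (w x) ↔ p x := by
  constructor
  · rintro ⟨⟨u, v⟩, rfl⟩ x
    change p ((u.subtypeCongr v) x) ↔ p x
    by_cases h : p x
    · rw [Equiv.Perm.subtypeCongr.left_apply _ _ h]
      exact ⟨fun _ => h, fun _ => (u ⟨x, h⟩).2⟩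
    · rw [Equiv.Perm.subtypeCongr.right_apply _ _ h]
      exact ⟨fun h' => absurd h' (v ⟨x, h⟩).2, fun h' => absurd h' h⟩
  · intro h
    refine ⟨⟨w.subtypePerm h, w.subtypePerm fun x => not_congr (h x)⟩, ?_⟩
    change Equiv.Perm.subtypeCongr _ _ = w
    ext x
    by_cases hx : p x
    · rw [Equiv.Perm.subtypeCongr.left_apply _ _ hx]
      rfl
    · rw [Equiv.Perm.subtypeCongr.right_apply _ _ hx]
      rfl

/-- two stable sets of the same size are equal -/
theorem stable_unique {w : Equiv.Perm α} (hw : SI (tp w)) {A B : Finset α} (hA : ∀ x, w x ∈ A ↔ x ∈ A)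
    (hB : ∀ x, w x ∈ B ↔ x ∈ B) (hc : A.card = B.card) : A = B := by
  classical
  have hP : ∀ x, w x ∈ A \ B ↔ x ∈ A \ B := fun x => by rw [mem_sdiff, mem_sdiff, hA, hB]
  have hQ : ∀ x, w x ∈ B \ A ↔ x ∈ B \ A := fun x => by rw [mem_sdiff, mem_sdiff, hA, hB]
  obtain ⟨⟨u, v⟩, huv⟩ := (mem_range_iff (fun x => x ∈ A \ B) w).2 hP
  have huv' : u.subtypeCongr v = w := huv
  have hv : ∀ x, (v x : α) ∈ B \ A ↔ (x : α) ∈ B \ A := by
    intro x
    have h1 : w x = v x := by
      rw [← huv', Equiv.Perm.subtypeCongr.right_apply _ _ x.2]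
    rw [← h1, hQ]
  obtain ⟨⟨u', v'⟩, huv2⟩ := (mem_range_iff (fun x : {a // ¬ a ∈ A \ B} => (x : α) ∈ B \ A) v).2 hv
  have huv2' : u'.subtypeCongr v' = v := huv2
  have h1 : tp w = tp u + (tp u' + tp v') := by
    rw [← huv', tp_subtypeCongr, ← huv2', tp_subtypeCongr]
    congr!
  have h2 : tp u + tp u' ≤ tp w := by
    rw [h1, ← add_assoc]
    exact Multiset.le_add_right _ _
  have h3 : (A \ B).card = (B \ A).card := by
    have h4 := Finset.card_sdiff_add_card_inter A B
    have h5 := Finset.card_sdiff_add_card_inter B A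
    rw [Finset.inter_comm B A] at h5
    omega
  have h6 : (tp u).sum = (A \ B).card := by
    rw [tp_sum, Fintype.card_coe]
  have h7 : (tp u').sum = (B \ A).card := by
    rw [tp_sum, Fintype.card_subtype]
    refine Finset.card_bij' (fun x _ => (x : α)) (fun x hx => ⟨x, fun h => (mem_sdiff.1 hx).2 (mem_sdiff.1 h).1⟩)
      ?_ ?_ ?_ ?_
    · intro x hx
      exact (Finset.mem_filter.1 hx).2
    · intro x hx
      exact Finset.mem_filter.2 ⟨Finset.mem_univ _, hx⟩
    · intro x _
      rfl
    · intro x _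
      rfl
  have h8 := hw.sum_eq h2 (by rw [h6, h7, h3])
  rw [h6, Finset.card_eq_zero, Finset.sdiff_eq_empty_iff_subset] at h8
  exact Finset.eq_of_subset_of_card_le h8 hc.ge

end Ty

/-! ### signed permutations -/

section Bn

variable {α : Type u} [Fintype α] [DecidableEq α]

omit [Fintype α] [DecidableEq α] in
theorem inv_app (σ : Equiv.Perm α) (a : α) : σ⁻¹ (σ a) = a := σ.symm_apply_apply a

omit [Fintype α] [DecidableEq α] in
theorem app_inv (σ : Equiv.Perm α) (a : α) : σ (σ⁻¹ a) = a := σ.apply_symm_apply a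

/-- the action of the permutations on the sign changes -/
def act (α : Type u) : Equiv.Perm α →* MulAut (α → ℤˣ) where
  toFun σ :=
    { toFun := fun ε a => ε (σ⁻¹ a)
      invFun := fun ε a => ε (σ a)
      left_inv := fun ε => by
        funext a
        change ε (σ⁻¹ (σ a)) = ε a
        rw [inv_app]
      right_inv := fun ε => by
        funext a
        change ε (σ (σ⁻¹ a)) = ε a
        rw [app_inv]
      map_mul' := fun _ _ => rfl }
  map_one' := rfl
  map_mul' := fun _ _ => rfl

theorem act_apply (σ : Equiv.Perm α) (ε : α → ℤˣ) (a : α) : act α σ ε a = ε (σ⁻¹ a) := rfl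

theorem act_single (σ : Equiv.Perm α) (a : α) (z : ℤˣ) : act α σ (Pi.mulSingle a z) = Pi.mulSingle (σ a) z := by
  funext b
  rw [act_apply]
  by_cases h : b = σ a
  · subst h
    rw [inv_app, Pi.mulSingle_eq_same, Pi.mulSingle_eq_same]
  · rw [Pi.mulSingle_eq_of_ne h, Pi.mulSingle_eq_of_ne]
    intro h'
    apply h
    rw [← h', app_inv]

/-- the support of a linear character of the group of sign changes -/
noncomputable def dom (θ : (α → ℤˣ) →* ℂˣ) : Finset α := by
  classical
  exact Finset.univ.filter fun a => θ (Pi.mulSingle a (-1)) ≠ 1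

theorem mem_dom {θ : (α → ℤˣ) →* ℂˣ} {a : α} : a ∈ dom θ ↔ θ (Pi.mulSingle a (-1)) ≠ 1 := by
  classical
  unfold dom
  rw [Finset.mem_filter]
  exact ⟨fun h => h.2, fun h => ⟨Finset.mem_univ _, h⟩⟩

theorem theta_single (θ : (α → ℤˣ) →* ℂˣ) (a : α) :
    θ (Pi.mulSingle a (-1)) = 1 ∨ θ (Pi.mulSingle a (-1)) = -1 := by
  have h1 : θ (Pi.mulSingle a (-1)) * θ (Pi.mulSingle a (-1)) = 1 := by
    rw [← map_mul, ← Pi.mulSingle_mul, neg_one_mul, neg_neg, Pi.mulSingle_one, map_one]
  have h2 : ((θ (Pi.mulSingle a (-1)) : ℂˣ) : ℂ) * ((θ (Pi.mulSingle a (-1)) : ℂˣ) : ℂ) = 1 := by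
    rw [← Units.val_mul, h1, Units.val_one]
  rcases mul_self_eq_one_iff.1 h2 with h | h
  · exact Or.inl (Units.ext h)
  · exact Or.inr (Units.ext (by rw [h]; simp))

theorem stab_iff (θ : (α → ℤˣ) →* ℂˣ) (σ : Equiv.Perm α) : σ ∈ stab (act α) θ ↔ ∀ x, σ x ∈ dom θ ↔ x ∈ dom θ := by
  rw [mem_stab]
  constructor
  · intro h x
    rw [mem_dom, mem_dom, ← act_single, h]
  · intro h
    have h1 : θ.comp (act α σ).toMonoidHom = θ := by
      refine MonoidHom.functions_ext _ _ _ fun a z => ?_
      change θ (act α σ (Pi.mulSingle a z)) = θ (Pi.mulSingle a z)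
      rw [act_single]
      rcases Int.units_eq_one_or z with rfl | rfl
      · rw [Pi.mulSingle_one, Pi.mulSingle_one]
      · have h2 := h a
        rw [mem_dom, mem_dom] at h2
        rcases theta_single θ a with h3 | h3
        · rcases theta_single θ (σ a) with h4 | h4
          · rw [h3, h4]
          · exfalso
            refine (h2.1 ?_) h3
            rw [h4]
            intro h5
            have h6 := congrArg Units.val h5
            norm_num at h6
        · rcases theta_single θ (σ a) with h4 | h4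
          · exfalso
            refine (h2.2 ?_) h4
            rw [h3]
            intro h5
            have h6 := congrArg Units.val h5
            norm_num at h6
          · rw [h3, h4]
    intro n
    exact DFunLike.congr_fun h1 n

/-- signed permutations -/
abbrev Wb (α : Type u) : Type u := (α → ℤˣ) ⋊[act α] Equiv.Perm α

instance : Fintype (Wb α) := Fintype.ofEquiv _ SemidirectProduct.equivProd.symm

theorem stab_range (θ : (α → ℤˣ) →* ℂˣ) :
    stab (act α) θ = (Equiv.Perm.subtypeCongrHom fun x => x ∈ dom θ).range := by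
  ext σ
  rw [stab_iff, mem_range_iff]

/-- **`|χ(w)| ≤ 1` for the signed permutations** -/
theorem signed {χ : Wb α → ℂ} (hχ : IsIrrCharacter (Wb α) χ) {w : Equiv.Perm α} (hw : SI (tp w)) :
    χ (SemidirectProduct.inr w) = 0 ∨ χ (SemidirectProduct.inr w) = 1 ∨ χ (SemidirectProduct.inr w) = -1 := by
  by_cases h0 : χ (SemidirectProduct.inr w) = 0
  · exact Or.inl h0
  obtain ⟨θ, h, hh, ψ, hψ, hval⟩ := cliff hχ w (by
    intro θ x y hx hy
    rw [stab_iff] at hx hy ⊢
    have h1 : (dom θ).map x.toEmbedding = (dom θ).map y.toEmbedding := by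
      have key : ∀ z : Equiv.Perm α, (∀ a, (z⁻¹ * w * z) a ∈ dom θ ↔ a ∈ dom θ) →
          ∀ a, w a ∈ (dom θ).map z.toEmbedding ↔ a ∈ (dom θ).map z.toEmbedding := by
        intro z hz a
        rw [Finset.mem_map_equiv, Finset.mem_map_equiv]
        have h2 := hz (z⁻¹ a)
        rw [Equiv.Perm.mul_apply, Equiv.Perm.mul_apply, app_inv] at h2
        exact h2
      refine stable_unique hw (key x hx) (key y hy) ?_
      rw [Finset.card_map, Finset.card_map]
    intro a
    rw [Equiv.Perm.mul_apply]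
    have h2 : y a ∈ (dom θ).map x.toEmbedding ↔ y a ∈ (dom θ).map y.toEmbedding := by rw [h1]
    rw [Finset.mem_map_equiv, Finset.mem_map_equiv, Equiv.symm_apply_apply] at h2
    exact h2) h0
  rw [hval]
  obtain ⟨⟨u, v⟩, huv⟩ : h⁻¹ * w * h ∈ (Equiv.Perm.subtypeCongrHom fun x => x ∈ dom θ).range := by
    rw [← stab_range]
    exact hh
  have huv' : u.subtypeCongr v = h⁻¹ * w * h := huv
  -- the isomorphism
  let e : (Equiv.Perm {a // a ∈ dom θ} × Equiv.Perm {a // ¬ a ∈ dom θ}) →* stab (act α) θ :=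
    (Equiv.Perm.subtypeCongrHom fun x => x ∈ dom θ).codRestrict (stab (act α) θ) fun x => by
      rw [stab_range]
      exact ⟨x, rfl⟩
  have he : Function.Surjective e := by
    rintro ⟨σ, hσ⟩
    have hσ' : σ ∈ (Equiv.Perm.subtypeCongrHom fun x => x ∈ dom θ).range := by
      rw [← stab_range]
      exact hσ
    obtain ⟨x, hx⟩ := hσ'
    exact ⟨x, Subtype.ext hx⟩
  obtain ⟨χ₁, χ₂, h1, h2, h3⟩ := (S0188.result _).1 (isIrr_comp e he hψ)
  have h4 : ψ ⟨h⁻¹ * w * h, hh⟩ = χ₁ u * χ₂ v := by
    have h5 := congrFun h3 (u, v)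
    rw [← h5, Function.comp_apply]
    congr 1
    exact Subtype.ext huv'.symm
  have h5 : tp (h⁻¹ * w * h) = tp w := by
    have h6 : IsConj (h⁻¹ * w * h) w := isConj_iff.2 ⟨h, by group⟩
    rw [tp, tp, Equiv.Perm.partition_eq_of_isConj.1 h6]
  rw [← huv', tp_subtypeCongr] at h5
  have hu := hw.le (le_of_le_of_eq (Multiset.le_add_right _ _) h5)
  have hv := hw.le (le_of_le_of_eq (Multiset.le_add_left _ _) h5)
  rw [h4]
  have hu' : SI (tp u) := by convert hu
  have hv' : SI (tp v) := by convert hv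
  rcases sym h1 hu' with h | h | h <;> rcases sym h2 hv' with h' | h' | h' <;> rw [h, h'] <;> norm_num

end Bn

end Cfsg.Agent.H215.WB
end

-- part: H215/WB/CoxB
section
/-!
# The Coxeter group of type `B_n` is the group of signed permutations

`isoB cs : W ≃* Wb (Fin n)` for `cs : CoxeterSystem (CoxeterMatrix.B n) W`, with
`isoB cs (s_i) = inr (swap i (i + 1))` for `i + 1 < n`.
-/

set_option autoImplicit false
set_option linter.unusedSectionVars false

namespace Cfsg.Agent.H215.WB

open Cfsg Cfsg.Agent.ChevalleyStructure.CoxeterGeom Cfsg.Agent.Tits.Roots Cfsg.Agent.Nodes.TypeC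

variable {n : ℕ}

/-- the simple reflections as permutations of the signed indices -/
def P (i : Fin n) : Equiv.Perm (Fin n × Bool) := ⟨sg i, sg i, sg_sg i, sg_sg i⟩

theorem P_apply (i : Fin n) (x : Fin n × Bool) : P i x = sg i x := rfl

/-- the action of a sign -/
def bx (z : ℤˣ) (b : Bool) : Bool := if z = 1 then b else !b

theorem bx_one (b : Bool) : bx 1 b = b := if_pos rfl

theorem bx_neg (b : Bool) : bx (-1) b = !b := if_neg (by decide)

theorem bx_mul (z z' : ℤˣ) (b : Bool) : bx (z * z') b = bx z (bx z' b) := by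
  rcases Int.units_eq_one_or z with rfl | rfl <;> rcases Int.units_eq_one_or z' with rfl | rfl <;>
    simp [bx_one, bx_neg]

/-- sign changes -/
def f1 : (Fin n → ℤˣ) →* Equiv.Perm (Fin n × Bool) where
  toFun ε := ⟨fun x => (x.1, bx (ε x.1) x.2), fun x => (x.1, bx (ε x.1)⁻¹ x.2),
    fun x => by
      refine Prod.ext rfl ?_
      change bx (ε x.1)⁻¹ (bx (ε x.1) x.2) = x.2
      rw [← bx_mul, inv_mul_cancel, bx_one],
    fun x => by
      refine Prod.ext rfl ?_
      change bx (ε x.1) (bx (ε x.1)⁻¹ x.2) = x.2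
      rw [← bx_mul, mul_inv_cancel, bx_one]⟩
  map_one' := by
    ext x
    · rfl
    · change bx 1 x.2 = x.2
      exact bx_one _
  map_mul' ε ε' := by
    ext x
    · rfl
    · change bx (ε x.1 * ε' x.1) x.2 = bx (ε x.1) (bx (ε' x.1) x.2)
      exact bx_mul _ _ _

/-- permutations -/
def f2 : Equiv.Perm (Fin n) →* Equiv.Perm (Fin n × Bool) where
  toFun σ := ⟨fun x => (σ x.1, x.2), fun x => (σ⁻¹ x.1, x.2),
    fun x => Prod.ext (inv_app σ x.1) rfl, fun x => Prod.ext (app_inv σ x.1) rfl⟩
  map_one' := rfl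
  map_mul' _ _ := rfl

/-- the action on the signed indices -/
def cc : Wb (Fin n) →* Equiv.Perm (Fin n × Bool) :=
  SemidirectProduct.lift f1 f2 (by
    intro σ
    refine MonoidHom.ext fun ε => ?_
    refine Equiv.ext fun x => ?_
    change (x.1, bx (ε (σ⁻¹ x.1)) x.2) = (σ (σ⁻¹ x.1), bx (ε (σ⁻¹ x.1)) x.2)
    rw [app_inv])

theorem cc_apply (g : Wb (Fin n)) (x : Fin n × Bool) : cc g x = (g.right x.1, bx (g.left (g.right x.1)) x.2) := rfl

theorem cc_injective : Function.Injective (cc (n := n)) := by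
  rw [injective_iff_map_eq_one]
  intro g hg
  have h1 : ∀ x : Fin n × Bool, (g.right x.1, bx (g.left (g.right x.1)) x.2) = x := fun x => by
    rw [← cc_apply, hg, Equiv.Perm.one_apply]
  have h2 : g.right = 1 := Equiv.ext fun a => congrArg Prod.fst (h1 (a, true))
  refine SemidirectProduct.ext ?_ h2
  funext a
  have h3 := congrArg Prod.snd (h1 (a, true))
  rw [h2] at h3
  change bx (g.left a) true = true at h3
  rcases Int.units_eq_one_or (g.left a) with h | h
  · exact h
  · rw [h, bx_neg] at h3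
    exact absurd h3 (by decide)

/-- the generators -/
def gen (i : Fin n) : Wb (Fin n) :=
  if h : (i : ℕ) + 1 < n then SemidirectProduct.inr (Equiv.swap i ⟨i + 1, h⟩)
  else SemidirectProduct.inl (Pi.mulSingle i (-1))

theorem gen_lt {i : Fin n} (h : (i : ℕ) + 1 < n) : gen i = SemidirectProduct.inr (Equiv.swap i ⟨i + 1, h⟩) := dif_pos h

theorem gen_last {i : Fin n} (h : ¬ (i : ℕ) + 1 < n) : gen i = SemidirectProduct.inl (Pi.mulSingle i (-1)) := dif_neg h

theorem cc_gen (i : Fin n) : cc (gen i) = P i := by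
  refine Equiv.ext fun x => ?_
  rw [P_apply]
  by_cases h : (i : ℕ) + 1 < n
  · rw [gen_lt h, cc_apply, SemidirectProduct.right_inr, SemidirectProduct.left_inr, Pi.one_apply, bx_one, sg, dif_pos h]
    by_cases h1 : x.1 = i
    · rw [if_pos h1, h1, Equiv.swap_apply_left]
    · rw [if_neg h1]
      by_cases h2 : x.1 = ⟨i + 1, h⟩
      · rw [if_pos h2, h2, Equiv.swap_apply_right]
      · rw [if_neg h2, Equiv.swap_apply_of_ne_of_ne h1 h2]
  · rw [gen_last h, cc_apply, SemidirectProduct.right_inl, SemidirectProduct.left_inl, Equiv.Perm.one_apply, sg,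
      dif_neg h]
    by_cases h1 : x.1 = i
    · rw [if_pos h1, h1, Pi.mulSingle_eq_same, bx_neg]
    · rw [if_neg h1, Pi.mulSingle_eq_of_ne h1, bx_one]

theorem P_pow (i j : Fin n) (m : ℕ) (x : Fin n × Bool) : ((P i * P j) ^ m) x = (fun y => sg i (sg j y))^[m] x := by
  induction m with
  | zero => rfl
  | succ m ih =>
    rw [pow_succ', Equiv.Perm.mul_apply, ih, Function.iterate_succ_apply', Equiv.Perm.mul_apply, P_apply, P_apply]

theorem liftable : (CoxeterMatrix.B n).IsLiftable (gen : Fin n → Wb (Fin n)) := by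
  intro i j
  apply cc_injective
  rw [map_pow, map_mul, cc_gen, cc_gen, map_one]
  refine Equiv.ext fun x => ?_
  rw [P_pow, sg_braid, Equiv.Perm.one_apply]

section Iso

variable {W : Type*} [Group W] (cs : CoxeterSystem (CoxeterMatrix.B n) W)

/-- the homomorphism -/
noncomputable def homB : W →* Wb (Fin n) := cs.lift ⟨gen, liftable⟩

theorem homB_simple (i : Fin n) : homB cs (cs.simple i) = gen i := cs.lift_apply_simple liftable i

theorem ee_act (w : W) : ∀ (x : Fin n → ℤ) (a b : Fin n × Bool), ee x = wt a + wt b →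
    ee (rep cs (isCartan n) w x) = wt (cc (homB cs w) a) + wt (cc (homB cs w) b) := by
  induction w using cs.simple_induction_left with
  | one =>
    intro x a b h
    rw [map_one, map_one, map_one, Module.End.one_apply]
    exact h
  | mul_simple_left w i ih =>
    intro x a b h
    rw [rep_mul_apply, rep_simple, ee_refl_of (ih x a b h), map_mul, homB_simple, map_mul, cc_gen]
    rfl

theorem homB_injective : Function.Injective (homB cs) := by
  rw [injective_iff_map_eq_one]
  intro w hw
  apply rep_injective cs (isCartan n)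
  rw [map_one]
  have h1 : ∀ i, rep cs (isCartan n) w (sr i) = sr i := by
    intro i
    apply ee_injective
    rw [ee_act cs w (sr i) (i, true) (nx i) (ee_sr i), hw, map_one]
    exact (ee_sr i).symm
  refine LinearMap.ext fun x => ?_
  have h2 : x = ∑ k, x k • sr k := by
    funext k
    simp [sr, Finset.sum_apply, Pi.single_apply]
  rw [h2, map_sum, Module.End.one_apply]
  exact Finset.sum_congr rfl fun k _ => by rw [map_smul, h1]

theorem homB_surjective : Function.Surjective (homB cs) := by
  rw [← MonoidHom.range_eq_top]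
  have hg : ∀ i : Fin n, gen i ∈ (homB cs).range := fun i => ⟨_, homB_simple cs i⟩
  -- the permutations
  have hr : ∀ σ : Equiv.Perm (Fin n), (SemidirectProduct.inr σ : Wb (Fin n)) ∈ (homB cs).range := by
    intro σ
    have h1 : σ ∈ ((homB cs).range.comap (SemidirectProduct.inr : Equiv.Perm (Fin n) →* Wb (Fin n))) := by
      have h2 : ((homB cs).range.comap (SemidirectProduct.inr : Equiv.Perm (Fin n) →* Wb (Fin n))) = ⊤ := by
        cases n with
        | zero => exact Subsingleton.elim _ _
        | succ m =>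
          rw [eq_top_iff]
          intro τ _
          have h3 : τ ∈ Submonoid.closure (Set.range fun i : Fin m => Equiv.swap i.castSucc i.succ) := by
            rw [Equiv.Perm.mclosure_swap_castSucc_succ]
            exact Submonoid.mem_top τ
          have h7 : Submonoid.closure (Set.range fun i : Fin m => Equiv.swap i.castSucc i.succ) ≤
              ((homB cs).range.comap (SemidirectProduct.inr : Equiv.Perm (Fin (m + 1)) →* Wb (Fin (m + 1)))).toSubmonoid := by
            rw [Submonoid.closure_le]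
            rintro _ ⟨i, rfl⟩
            change (SemidirectProduct.inr (Equiv.swap i.castSucc i.succ) : Wb (Fin (m + 1))) ∈ (homB cs).range
            have h4 : ((i.castSucc : Fin (m + 1)) : ℕ) + 1 < m + 1 := by
              rw [Fin.val_castSucc]
              omega
            have h5 := hg i.castSucc
            rw [gen_lt h4] at h5
            have h6 : (⟨(i.castSucc : ℕ) + 1, h4⟩ : Fin (m + 1)) = i.succ := Fin.ext (by simp)
            rw [h6] at h5
            exact h5
          exact h7 h3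
      rw [h2]
      exact Subgroup.mem_top σ
    exact h1
  have hl : ∀ ε : Fin n → ℤˣ, (SemidirectProduct.inl ε : Wb (Fin n)) ∈ (homB cs).range := by
    have h1 : ∀ a : Fin n, (SemidirectProduct.inl (Pi.mulSingle a (-1)) : Wb (Fin n)) ∈ (homB cs).range := by
      intro a
      have hn : 0 < n := by have := a.2; omega
      have hb : ¬ ((⟨n - 1, by omega⟩ : Fin n) : ℕ) + 1 < n := by
        change ¬ (n - 1) + 1 < n
        omega
      have h2 := hg ⟨n - 1, by omega⟩
      rw [gen_last hb] at h2
      have h3 := mul_mem (mul_mem (hr (Equiv.swap ⟨n - 1, by omega⟩ a)) h2)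
        (inv_mem (hr (Equiv.swap ⟨n - 1, by omega⟩ a)))
      rw [← map_inv, ← SemidirectProduct.inl_aut, act_single, Equiv.swap_apply_left] at h3
      exact h3
    intro ε
    have h2 : ∏ a, Pi.mulSingle a (ε a) ∈ (homB cs).range.comap (SemidirectProduct.inl : (Fin n → ℤˣ) →* Wb (Fin n)) := by
      refine Subgroup.prod_mem _ fun a _ => ?_
      rcases Int.units_eq_one_or (ε a) with h | h
      · rw [h, Pi.mulSingle_one]
        exact one_mem _
      · rw [h]
        exact h1 a
    rw [Finset.univ_prod_mulSingle] at h2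
    exact h2
  rw [eq_top_iff]
  intro g _
  rw [← SemidirectProduct.inl_left_mul_inr_right g]
  exact mul_mem (hl _) (hr _)

/-- **The Coxeter group of type `B_n` is the group of signed permutations.** -/
noncomputable def isoB : W ≃* Wb (Fin n) := MulEquiv.ofBijective (homB cs) ⟨homB_injective cs, homB_surjective cs⟩

theorem isoB_simple (i : Fin n) : isoB cs (cs.simple i) = gen i := homB_simple cs i

theorem isoB_simple_lt {i : Fin n} (h : (i : ℕ) + 1 < n) :
    isoB cs (cs.simple i) = SemidirectProduct.inr (Equiv.swap i ⟨i + 1, h⟩) := by rw [isoB_simple, gen_lt h]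

/-- **`|φ(w)| ≤ 1` in the Coxeter group of type `B_n`** -/
theorem coxB {φ : W → ℂ} (hφ : IsIrrCharacter W φ) {w : Equiv.Perm (Fin n)} (hw : SI (tp w)) :
    φ ((isoB cs).symm (SemidirectProduct.inr w)) = 0 ∨ φ ((isoB cs).symm (SemidirectProduct.inr w)) = 1 ∨
      φ ((isoB cs).symm (SemidirectProduct.inr w)) = -1 :=
  signed (Characters.Core.isIrr_comp (isoB cs).symm.toMonoidHom (isoB cs).symm.surjective hφ) hw

end Iso

end Cfsg.Agent.H215.WB
end

private theorem dce_54f97a8c2284 : _root_.True := by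
  try have : _root_.True := by simp only [_root_.Cfsg.Agent.H215.WB.tp.eq_1]
  exact _root_.True.intro
end

-- part: H493/CC/CoxD
section
prune_inst 0x80000000000000c010000
set_option linter.all false
open scoped Cfsg.Agent.FastGrp

/-!
# The Coxeter group of type `D_{n+2}` is the group of even signed permutations (helper493, S4884)

* `par : Wb α →* ℤˣ`, the product of the signs; `par_eq_sign` : `par g = sign (cc g)`;
* `homD cs : W →* Wb (Fin (n + 2))` for `cs : CoxeterSystem (TypeD.M n) W`; `homD_simple_lt`, `homD_simple_last`;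
* `homD_injective`, `range_homD : (homD cs).range = par.ker`; `isoD cs : W ≃* par.ker`.
-/

set_option autoImplicit false
set_option linter.unusedSectionVars false

namespace Cfsg.Agent.H493.CC

open Cfsg Cfsg.Agent.ChevalleyStructure.CoxeterGeom Cfsg.Agent.Tits.Roots Cfsg.Agent.H215.WB
open Cfsg.Agent.Nodes.TypeC (wt ng)
open Cfsg.Agent.Nodes.TypeD

/-! ### The parity -/

/-- the product of the signs -/
def par {α : Type*} [Fintype α] [DecidableEq α] : Wb α →* ℤˣ where
  toFun g := ∏ a, g.left a
  map_one' := by simp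
  map_mul' g h := by
    rw [SemidirectProduct.mul_left]
    have h1 : ∏ a, ((act α) g.right h.left) a = ∏ a, h.left a := by
      simp only [act_apply]
      exact Equiv.prod_comp g.right⁻¹ h.left
    simp only [Pi.mul_apply]
    rw [Finset.prod_mul_distrib, h1]

theorem par_apply {α : Type*} [Fintype α] [DecidableEq α] (g : Wb α) : par g = ∏ a, g.left a := rfl

theorem par_inr {α : Type*} [Fintype α] [DecidableEq α] (σ : Equiv.Perm α) :
    par (SemidirectProduct.inr σ : Wb α) = 1 := by
  rw [par_apply]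
  simp

theorem par_inl {α : Type*} [Fintype α] [DecidableEq α] (ε : α → ℤˣ) :
    par (SemidirectProduct.inl ε : Wb α) = ∏ a, ε a := rfl

theorem sign_f2 {n : ℕ} (σ : Equiv.Perm (Fin n)) : Equiv.Perm.sign (f2 σ) = 1 := by
  have h1 : f2 σ = (Equiv.prodCongrLeft fun _ : Bool => σ) := Equiv.ext fun x => rfl
  rw [h1, Equiv.Perm.sign_prodCongrLeft]
  simp only [Finset.prod_const, Finset.card_univ, Fintype.card_bool]
  exact Int.units_sq _

theorem sign_f1 {n : ℕ} (ε : Fin n → ℤˣ) : Equiv.Perm.sign (f1 ε) = ∏ a, ε a := by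
  have h1 : f1 ε = (Equiv.prodCongrRight fun a => if ε a = 1 then (1 : Equiv.Perm Bool) else Equiv.swap true false) := by
    refine Equiv.ext fun x => ?_
    show (x.1, bx (ε x.1) x.2) = (x.1, (if ε x.1 = 1 then (1 : Equiv.Perm Bool) else Equiv.swap true false) x.2)
    refine Prod.ext rfl ?_
    show bx (ε x.1) x.2 = (if ε x.1 = 1 then (1 : Equiv.Perm Bool) else Equiv.swap true false) x.2
    rcases Int.units_eq_one_or (ε x.1) with h | h
    · rw [h, bx_one, if_pos rfl, Equiv.Perm.one_apply]
    · rw [h, bx_neg, if_neg (by decide)]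
      cases x.2 <;> rfl
  rw [h1, Equiv.Perm.sign_prodCongrRight]
  refine Finset.prod_congr rfl fun a _ => ?_
  rcases Int.units_eq_one_or (ε a) with h | h
  · rw [h, if_pos rfl, Equiv.Perm.sign_one]
  · rw [h, if_neg (by decide), Equiv.Perm.sign_swap (by decide)]

/-- **The parity is the sign on the signed indices.** -/
theorem par_eq_sign {n : ℕ} (g : Wb (Fin n)) : par g = Equiv.Perm.sign (cc g) := by
  conv_rhs => rw [← SemidirectProduct.inl_left_mul_inr_right g]
  rw [map_mul]
  have h1 : cc (SemidirectProduct.inl g.left : Wb (Fin n)) = f1 g.left := SemidirectProduct.lift_inl _ _ _ _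
  have h2 : cc (SemidirectProduct.inr g.right : Wb (Fin n)) = f2 g.right := SemidirectProduct.lift_inr _ _ _ _
  rw [h1, h2, map_mul, sign_f1, sign_f2, mul_one]
  rfl

/-! ### The homomorphism -/

variable {n : ℕ}

/-- the simple reflections as permutations of the signed indices -/
def PD (i : Fin (n + 2)) : Equiv.Perm (Fin (n + 2) × Bool) := ⟨sg i, sg i, sg_sg i, sg_sg i⟩

theorem PD_apply (i : Fin (n + 2)) (x : Fin (n + 2) × Bool) : PD i x = sg i x := rfl

/-- the generators -/
def genD (i : Fin (n + 2)) : Wb (Fin (n + 2)) :=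
  if h : (i : ℕ) + 1 < n + 2 then SemidirectProduct.inr (Equiv.swap i ⟨i + 1, h⟩)
  else SemidirectProduct.inl (Pi.mulSingle i (-1) * Pi.mulSingle (pd n) (-1)) *
    SemidirectProduct.inr (Equiv.swap i (pd n))

theorem genD_lt {i : Fin (n + 2)} (h : (i : ℕ) + 1 < n + 2) :
    genD i = SemidirectProduct.inr (Equiv.swap i ⟨i + 1, h⟩) := dif_pos h

theorem genD_last {i : Fin (n + 2)} (h : ¬ (i : ℕ) + 1 < n + 2) :
    genD i = SemidirectProduct.inl (Pi.mulSingle i (-1) * Pi.mulSingle (pd n) (-1)) *
      SemidirectProduct.inr (Equiv.swap i (pd n)) := dif_neg h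

theorem ne_pd {i : Fin (n + 2)} (h : ¬ (i : ℕ) + 1 < n + 2) : i ≠ pd n := by
  intro e
  apply h
  rw [e]
  simp [pd]

theorem cc_genD (i : Fin (n + 2)) : cc (genD i) = PD i := by
  refine Equiv.ext fun x => ?_
  rw [PD_apply]
  by_cases h : (i : ℕ) + 1 < n + 2
  · rw [genD_lt h, cc_apply, SemidirectProduct.right_inr, SemidirectProduct.left_inr, Pi.one_apply, bx_one, sg, dif_pos h]
    by_cases h1 : x.1 = i
    · rw [if_pos h1, h1, Equiv.swap_apply_left]
    · rw [if_neg h1]
      by_cases h2 : x.1 = ⟨i + 1, h⟩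
      · rw [if_pos h2, h2, Equiv.swap_apply_right]
      · rw [if_neg h2, Equiv.swap_apply_of_ne_of_ne h1 h2]
  · have hne := ne_pd h
    have e0 : ∀ x : Fin (n + 2) × Bool, cc (SemidirectProduct.inl (Pi.mulSingle i (-1) * Pi.mulSingle (pd n) (-1)) *
        SemidirectProduct.inr (Equiv.swap i (pd n)) : Wb (Fin (n + 2))) x =
        (Equiv.swap i (pd n) x.1, bx ((Pi.mulSingle i (-1) * Pi.mulSingle (pd n) (-1) : Fin (n + 2) → ℤˣ)
          (Equiv.swap i (pd n) x.1)) x.2) := by
      intro x
      rw [map_mul, Equiv.Perm.mul_apply, cc_apply, cc_apply, SemidirectProduct.right_inr, SemidirectProduct.left_inr,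
        SemidirectProduct.right_inl, SemidirectProduct.left_inl, Pi.one_apply, bx_one, Equiv.Perm.one_apply]
    rw [genD_last h, e0, sg, dif_neg h]
    by_cases h1 : x.1 = i
    · rw [if_pos h1, h1, Equiv.swap_apply_left, Pi.mul_apply, Pi.mulSingle_eq_same, Pi.mulSingle_eq_of_ne hne.symm,
        one_mul, bx_neg]
    · rw [if_neg h1]
      by_cases h2 : x.1 = pd n
      · rw [if_pos h2, h2, Equiv.swap_apply_right, Pi.mul_apply, Pi.mulSingle_eq_same, Pi.mulSingle_eq_of_ne hne,
          mul_one, bx_neg]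
      · rw [if_neg h2, Equiv.swap_apply_of_ne_of_ne h1 h2, Pi.mul_apply, Pi.mulSingle_eq_of_ne h1,
          Pi.mulSingle_eq_of_ne h2, mul_one, bx_one]

theorem PD_pow (i j : Fin (n + 2)) (m : ℕ) (x : Fin (n + 2) × Bool) :
    ((PD i * PD j) ^ m) x = (fun y => sg i (sg j y))^[m] x := by
  induction m with
  | zero => rfl
  | succ m ih =>
    rw [pow_succ', Equiv.Perm.mul_apply, ih, Function.iterate_succ_apply', Equiv.Perm.mul_apply, PD_apply, PD_apply]

theorem liftableD : (M n).IsLiftable (genD : Fin (n + 2) → Wb (Fin (n + 2))) := by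
  intro i j
  apply cc_injective
  rw [map_pow, map_mul, cc_genD, cc_genD, map_one]
  refine Equiv.ext fun x => ?_
  rw [PD_pow, sg_braid, Equiv.Perm.one_apply]

section Iso

variable {W : Type*} [Group W] (cs : CoxeterSystem (M n) W)

/-- the homomorphism -/
noncomputable def homD : W →* Wb (Fin (n + 2)) := cs.lift ⟨genD, liftableD⟩

theorem homD_simple (i : Fin (n + 2)) : homD cs (cs.simple i) = genD i := cs.lift_apply_simple liftableD i

theorem homD_simple_lt {i : Fin (n + 2)} (h : (i : ℕ) + 1 < n + 2) :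
    homD cs (cs.simple i) = SemidirectProduct.inr (Equiv.swap i ⟨i + 1, h⟩) := by rw [homD_simple, genD_lt h]

theorem ee_actD (w : W) : ∀ (x : Fin (n + 2) → ℤ) (a b : Fin (n + 2) × Bool), ee x = wt a + wt b →
    ee (rep cs (isCartan n) w x) = wt (cc (homD cs w) a) + wt (cc (homD cs w) b) := by
  induction w using cs.simple_induction_left with
  | one =>
    intro x a b h
    rw [map_one, map_one, map_one, Module.End.one_apply]
    exact h
  | mul_simple_left w i ih =>
    intro x a b h
    rw [rep_mul_apply, rep_simple, ee_refl_of (ih x a b h), map_mul, homD_simple, map_mul, cc_genD]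
    rfl

theorem homD_injective : Function.Injective (homD cs) := by
  rw [injective_iff_map_eq_one]
  intro w hw
  apply rep_injective cs (isCartan n)
  rw [map_one]
  have h1 : ∀ i, rep cs (isCartan n) w (sr i) = sr i := by
    intro i
    apply ee_injective
    rw [ee_actD cs w (sr i) (i, true) (nx i) (ee_sr i), hw, map_one]
    exact (ee_sr i).symm
  refine LinearMap.ext fun x => ?_
  have h2 : x = ∑ k, x k • sr k := by
    funext k
    simp [sr, Finset.sum_apply, Pi.single_apply]
  rw [h2, map_sum, Module.End.one_apply]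
  exact Finset.sum_congr rfl fun k _ => by rw [map_smul, h1]

theorem par_genD (i : Fin (n + 2)) : par (genD i) = 1 := by
  by_cases h : (i : ℕ) + 1 < n + 2
  · rw [genD_lt h, par_inr]
  · rw [genD_last h, map_mul, par_inr, mul_one, par_inl]
    simp only [Pi.mul_apply, Finset.prod_mul_distrib, Finset.prod_pi_mulSingle', Finset.mem_univ, if_true]
    decide

theorem range_le : (homD cs).range ≤ (par : Wb (Fin (n + 2)) →* ℤˣ).ker := by
  rintro _ ⟨w, rfl⟩
  induction w using cs.simple_induction_left with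
  | one => rw [map_one]; exact one_mem _
  | mul_simple_left w i ih =>
    rw [map_mul, homD_simple]
    exact mul_mem ((MonoidHom.mem_ker).2 (par_genD i)) ih

theorem inr_mem (σ : Equiv.Perm (Fin (n + 2))) : (SemidirectProduct.inr σ : Wb (Fin (n + 2))) ∈ (homD cs).range := by
  have hg : ∀ i : Fin (n + 2), genD i ∈ (homD cs).range := fun i => ⟨_, homD_simple cs i⟩
  have h3 : σ ∈ Submonoid.closure (Set.range fun i : Fin (n + 1) => Equiv.swap i.castSucc i.succ) := by
    rw [Equiv.Perm.mclosure_swap_castSucc_succ]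
    exact Submonoid.mem_top σ
  have h7 : Submonoid.closure (Set.range fun i : Fin (n + 1) => Equiv.swap i.castSucc i.succ) ≤
      ((homD cs).range.comap (SemidirectProduct.inr : Equiv.Perm (Fin (n + 2)) →* Wb (Fin (n + 2)))).toSubmonoid := by
    rw [Submonoid.closure_le]
    rintro _ ⟨i, rfl⟩
    change (SemidirectProduct.inr (Equiv.swap i.castSucc i.succ) : Wb (Fin (n + 2))) ∈ (homD cs).range
    have h4 : ((i.castSucc : Fin (n + 2)) : ℕ) + 1 < n + 2 := by
      rw [Fin.val_castSucc]
      omega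
    have h5 := hg i.castSucc
    rw [genD_lt h4] at h5
    have h6 : (⟨(i.castSucc : ℕ) + 1, h4⟩ : Fin (n + 2)) = i.succ := Fin.ext (by simp)
    rw [h6] at h5
    exact h5
  exact h7 h3

theorem exists_two {α : Type*} [DecidableEq α] {x y a b : α} (hxy : x ≠ y) (hab : a ≠ b) :
    ∃ σ : Equiv.Perm α, σ x = a ∧ σ y = b := by
  refine ⟨Equiv.swap (Equiv.swap x a y) b * Equiv.swap x a, ?_, ?_⟩
  · rw [Equiv.Perm.mul_apply, Equiv.swap_apply_left]
    apply Equiv.swap_apply_of_ne_of_ne _ hab
    intro h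
    apply hxy
    apply (Equiv.swap x a).injective
    rw [Equiv.swap_apply_left]
    exact h
  · rw [Equiv.Perm.mul_apply, Equiv.swap_apply_left]

theorem pair_mem {a b : Fin (n + 2)} (hab : a ≠ b) :
    (SemidirectProduct.inl (Pi.mulSingle a (-1) * Pi.mulSingle b (-1)) : Wb (Fin (n + 2))) ∈ (homD cs).range := by
  have hl : ¬ ((Fin.last (n + 1) : Fin (n + 2)) : ℕ) + 1 < n + 2 := by simp
  have h0 : genD (Fin.last (n + 1) : Fin (n + 2)) ∈ (homD cs).range := ⟨_, homD_simple cs _⟩
  rw [genD_last hl] at h0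
  have h1 := mul_mem h0 (inv_mem (inr_mem cs (Equiv.swap (Fin.last (n + 1)) (pd n))))
  rw [mul_inv_cancel_right] at h1
  obtain ⟨σ, e1, e2⟩ := exists_two (ne_pd hl) hab
  have h3 := mul_mem (mul_mem (inr_mem cs σ) h1) (inv_mem (inr_mem cs σ))
  rw [← map_inv, ← SemidirectProduct.inl_aut, map_mul, act_single, act_single, e1, e2] at h3
  exact h3

/-- **The range: the even signed permutations.** -/
theorem range_homD : (homD cs).range = (par : Wb (Fin (n + 2)) →* ℤˣ).ker := by
  refine le_antisymm (range_le cs) ?_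
  intro g hg
  have hp : ∏ a, g.left a = 1 := hg
  rw [← SemidirectProduct.inl_left_mul_inr_right g]
  refine mul_mem ?_ (inr_mem cs _)
  have h2 : ∏ a, (Pi.mulSingle a (g.left a) * Pi.mulSingle 0 (g.left a)) ∈
      (homD cs).range.comap (SemidirectProduct.inl : (Fin (n + 2) → ℤˣ) →* Wb (Fin (n + 2))) := by
    refine Subgroup.prod_mem _ fun a _ => ?_
    rcases Int.units_eq_one_or (g.left a) with h | h
    · rw [h, Pi.mulSingle_one, Pi.mulSingle_one, mul_one]
      exact one_mem _
    · rw [h]
      by_cases ha : a = 0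
      · rw [ha, ← Pi.mulSingle_mul]
        have : (-1 : ℤˣ) * -1 = 1 := by decide
        rw [this, Pi.mulSingle_one]
        exact one_mem _
      · exact pair_mem cs ha
  rw [Finset.prod_mul_distrib, Finset.univ_prod_mulSingle] at h2
  have h3 : ∏ a, (Pi.mulSingle 0 (g.left a) : Fin (n + 2) → ℤˣ) = 1 := by
    have h4 := (map_prod (MonoidHom.mulSingle (fun _ : Fin (n + 2) => ℤˣ) 0) g.left Finset.univ).symm
    rw [hp, map_one] at h4
    exact h4
  rw [h3, mul_one] at h2
  exact h2

end Iso

end Cfsg.Agent.H493.CC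
end
end
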