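import Mathlib
import Cfsg.Agent.H493.CC.CoxD
import Cfsg.Agent.H381.OQ.MackeyB_m3
import Cfsg.Agent.OddHalf.NI.ClosedSL
import Cfsg.Agent.Prune
set_option linter.all false

section
prune_inst 0x7f00000000000000000000000000000000000000000000000000000000000000000000000000000000000000000000000000000000000000000000000000000000000000000000000000000000000000003fffffffffffffffffffffffffffbeffbdffffffff

-- part: H493/CC/AmbB
section
set_option linter.all false
open scoped Cfsg.Agent.FastGrp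

-- part: H493/CC/Inv
section
/-!
# Inversion of a commutative group action (helper493)

`exists_inv` : a commutative group `A` acts on `X`: there is an involution `τ` of `X` with `τ (a • x) = a⁻¹ • τ x`,
preserving the orbits.
-/

set_option autoImplicit false

namespace Cfsg.Agent.H493.CC

/-- **Inversion**: choose a base point in each orbit. -/
theorem exists_inv {A X : Type*} [Group A] [MulAction A X] (hA : ∀ a b : A, a * b = b * a) :
    ∃ τ : Equiv.Perm X, (∀ (a : A) (x : X), τ (a • x) = a⁻¹ • τ x) ∧ (∀ x, τ (τ x) = x) ∧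
      (∀ x, ∃ a : A, τ x = a • x) ∧
      ∀ x, ∃ a : A, τ (a • x) = a • x := by
  classical
  let r : X → X := fun x => (Quotient.mk (MulAction.orbitRel A X) x).out
  have ex : ∀ x, ∃ a : A, a • r x = x := by
    intro x
    have h1 : (MulAction.orbitRel A X) (r x) x := Quotient.mk_out (s := MulAction.orbitRel A X) x
    have h2 : (MulAction.orbitRel A X) x (r x) := (MulAction.orbitRel A X).symm h1
    obtain ⟨a, ha⟩ := MulAction.orbitRel_apply.1 h2
    exact ⟨a, ha⟩
  have hr : ∀ (a : A) (x : X), r (a • x) = r x := by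
    intro a x
    have h1 : (Quotient.mk (MulAction.orbitRel A X) (a • x)) = Quotient.mk (MulAction.orbitRel A X) x :=
      Quotient.sound (MulAction.orbitRel_apply.2 ⟨a, rfl⟩)
    show (Quotient.mk (MulAction.orbitRel A X) (a • x)).out = _
    rw [h1]
  let c : X → A := fun x => (ex x).choose
  have hc : ∀ x, c x • r x = x := fun x => (ex x).choose_spec
  let t : X → X := fun x => (c x)⁻¹ • r x
  have key : ∀ (x : X) (a : A), a • r x = x → t x = a⁻¹ • r x := by
    intro x a ha
    show (c x)⁻¹ • r x = a⁻¹ • r x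
    have h1 : (a⁻¹ * c x) • r x = r x := by
      rw [mul_smul, hc, ← ha]
      have h2 : r (a • r x) = r x := by rw [ha]
      rw [h2, inv_smul_smul]
    rw [hA] at h1
    have h3 : (c x)⁻¹ • r x = (c x)⁻¹ • ((c x * a⁻¹) • r x) := by rw [h1]
    rw [h3, ← mul_smul, ← mul_assoc, inv_mul_cancel, one_mul]
  have hrt : ∀ x, r (t x) = r x := by
    intro x
    show r ((c x)⁻¹ • r x) = r x
    rw [hr]
    conv_rhs => rw [← hc x, hr]
  have htt : ∀ x, t (t x) = x := by
    intro x
    have h1 : (c x)⁻¹ • r (t x) = t x := by rw [hrt]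
    rw [key (t x) _ h1, inv_inv, hrt, hc]
  have ht : ∀ (a : A) (x : X), t (a • x) = a⁻¹ • t x := by
    intro a x
    have h1 : (a * c x) • r (a • x) = a • x := by rw [hr, mul_smul, hc]
    rw [key _ _ h1, hr, mul_inv_rev, hA, mul_smul]
  have hrr : ∀ x, r (r x) = r x := by
    intro x
    have h1 : (c x)⁻¹ • x = r x := inv_smul_eq_iff.2 (hc x).symm
    conv_lhs => rw [← h1]
    exact hr _ _
  refine ⟨⟨t, t, htt, htt⟩, ht, htt, fun x => ⟨(c x)⁻¹ * (c x)⁻¹, ?_⟩, fun x => ⟨(c x)⁻¹, ?_⟩⟩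
  · show (c x)⁻¹ • r x = _
    have h1 : (c x)⁻¹ • x = r x := inv_smul_eq_iff.2 (hc x).symm
    rw [mul_smul, h1]
  · have h1 : (c x)⁻¹ • x = r x := inv_smul_eq_iff.2 (hc x).symm
    rw [h1]
    show t (r x) = r x
    have h2 : (1 : A) • r (r x) = r x := by rw [one_smul, hrr]
    rw [key _ _ h2, inv_one, h2]

end Cfsg.Agent.H493.CC
end

-- part: H493/CC/AmbB
section
/-!
# The Coxeter group of type `B_n` is ambivalent (helper493, S4884)

* `exists_cc` : a permutation of the signed indices commuting with `ng` is `cc g`;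
* `exists_inv_commuting` : for `π` commuting with `ng` there is an involution `τ` commuting with `ng` with `τ π τ = π⁻¹`;
* `real_B` : every `w` is conjugate to `w⁻¹`.
-/

set_option autoImplicit false

namespace Cfsg.Agent.H493.CC

open Cfsg Cfsg.Agent.H215.WB Cfsg.Agent.Nodes.TypeC

variable {n : ℕ}

/-- the sign of a Boolean -/
def sb (b : Bool) : ℤˣ := if b then 1 else -1

theorem bx_sb (b : Bool) : bx (sb b) true = b := by cases b <;> decide

theorem bx_not (z : ℤˣ) (b : Bool) : bx z (!b) = !(bx z b) := by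
  rcases Int.units_eq_one_or z with rfl | rfl <;> simp [bx_one, bx_neg]

theorem eq_or_ng' (y : Fin n × Bool) : y = (y.1, true) ∨ y = ng (y.1, true) := by
  obtain ⟨a, b⟩ := y
  cases b
  · exact Or.inr rfl
  · exact Or.inl rfl

/-- **A permutation of the signed indices commuting with `ng` is a signed permutation.** -/
theorem exists_cc (τ : Equiv.Perm (Fin n × Bool)) (h : ∀ x, τ (ng x) = ng (τ x)) : ∃ g : Wb (Fin n), cc g = τ := by
  have h' : ∀ x, τ⁻¹ (ng x) = ng (τ⁻¹ x) := by
    intro x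
    apply τ.injective
    rw [h, app_inv, app_inv]
  have key : ∀ ρ : Equiv.Perm (Fin n × Bool), (∀ x, ρ (ng x) = ng (ρ x)) → ∀ y, (ρ (y.1, true)).1 = (ρ y).1 := by
    intro ρ hρ y
    rcases eq_or_ng' y with e | e
    · rw [← e]
    · conv_rhs => rw [e, hρ]
      rfl
  let σ : Equiv.Perm (Fin n) := ⟨fun a => (τ (a, true)).1, fun a => (τ⁻¹ (a, true)).1,
    fun a => by
      show (τ⁻¹ ((τ (a, true)).1, true)).1 = a
      rw [key _ h', inv_app],
    fun a => by
      show (τ ((τ⁻¹ (a, true)).1, true)).1 = a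
      rw [key _ h, app_inv]⟩
  refine ⟨⟨fun b => sb (τ (σ⁻¹ b, true)).2, σ⟩, Equiv.ext fun x => ?_⟩
  rw [cc_apply]
  show (σ x.1, bx (sb (τ (σ⁻¹ (σ x.1), true)).2) x.2) = τ x
  have e1 : σ⁻¹ (σ x.1) = x.1 := inv_app _ _
  rw [e1]
  have e2 : ∀ b : Bool, (σ x.1, bx (sb (τ (x.1, true)).2) b) = τ (x.1, b) := by
    intro b
    cases b
    · have e3 : ((x.1, false) : Fin n × Bool) = ng (x.1, true) := rfl
      rw [e3, h]
      have e4 : false = !true := rfl
      refine Prod.ext rfl ?_
      show bx (sb (τ (x.1, true)).2) false = !(τ (x.1, true)).2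
      rw [e4, bx_not, bx_sb]
    · refine Prod.ext rfl ?_
      show bx (sb (τ (x.1, true)).2) true = (τ (x.1, true)).2
      rw [bx_sb]
  exact e2 x.2

/-- `ng` as a permutation -/
def ngP (n : ℕ) : Equiv.Perm (Fin n × Bool) := ⟨ng, ng, ng_ng, ng_ng⟩

theorem cc_ng (g : Wb (Fin n)) (x : Fin n × Bool) : cc g (ng x) = ng (cc g x) := by
  rw [cc_apply, cc_apply]
  refine Prod.ext rfl ?_
  exact bx_not _ _

/-- **The inverting involution.** -/
theorem exists_inv_commuting (π : Equiv.Perm (Fin n × Bool)) (h : ∀ x, π (ng x) = ng (π x)) :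
    ∃ τ : Equiv.Perm (Fin n × Bool), (∀ x, τ (ng x) = ng (τ x)) ∧ τ * τ = 1 ∧ τ * π * τ⁻¹ = π⁻¹ := by
  have hc : π * ngP n = ngP n * π := Equiv.ext fun x => h x
  set A : Subgroup (Equiv.Perm (Fin n × Bool)) := Subgroup.closure {π, ngP n} with hA
  have hcomm : ∀ a b : A, a * b = b * a := by
    have h1 : ∀ x ∈ ({π, ngP n} : Set (Equiv.Perm (Fin n × Bool))), ∀ y ∈ ({π, ngP n} : Set (Equiv.Perm (Fin n × Bool))),
        x * y = y * x := by
      rintro x (rfl | rfl) y (rfl | rfl)
      · rfl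
      · exact hc
      · exact hc.symm
      · rfl
    exact (Subgroup.isMulCommutative_closure h1).is_comm.comm
  obtain ⟨τ, h1, h2, -, -⟩ := exists_inv (A := A) (X := Fin n × Bool) hcomm
  have hπ : π ∈ A := Subgroup.subset_closure (Or.inl rfl)
  have hn : ngP n ∈ A := Subgroup.subset_closure (Or.inr rfl)
  refine ⟨τ, fun x => ?_, Equiv.ext fun x => h2 x, ?_⟩
  · have h3 := h1 ⟨ngP n, hn⟩ x
    have h4 : (ngP n)⁻¹ = ngP n := rfl
    exact h3
  · rw [mul_inv_eq_iff_eq_mul]
    exact Equiv.ext fun x => h1 ⟨π, hπ⟩ x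

/-- every signed permutation is conjugate to its inverse -/
theorem real_Wb (g : Wb (Fin n)) : ∃ k : Wb (Fin n), k * k = 1 ∧ k * g * k⁻¹ = g⁻¹ := by
  obtain ⟨τ, h1, h2, h3⟩ := exists_inv_commuting (cc g) (cc_ng g)
  obtain ⟨k, rfl⟩ := exists_cc τ h1
  refine ⟨k, cc_injective (by rw [map_mul, h2, map_one]), cc_injective ?_⟩
  rw [map_mul, map_mul, map_inv, map_inv, h3]

/-- **Every element of the Coxeter group of type `B_n` is conjugate to its inverse.** -/
theorem real_B {W : Type*} [Group W] (cs : CoxeterSystem (CoxeterMatrix.B n) W) (w : W) : IsConj w w⁻¹ := by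
  obtain ⟨k, -, hk⟩ := real_Wb (isoB cs w)
  rw [isConj_iff]
  refine ⟨(isoB cs).symm k, (isoB cs).injective ?_⟩
  rw [map_mul, map_mul, map_inv, MulEquiv.apply_symm_apply, hk, map_inv]

end Cfsg.Agent.H493.CC
end
end

-- part: H310/OQ/Psl
section
set_option linter.all false
open scoped Cfsg.Agent.FastGrp

/-!
# S4884, own odd characteristic: the input for `PSL_{n+1}(F)`, `n ≥ 2` (helper310)
-/

set_option autoImplicit false
set_option linter.unusedSectionVars false

namespace Cfsg.Agent.H310.OQ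

open Matrix CoxeterSystem Cfsg.Agent.ChevalleyStructure.CoxeterGeom Cfsg.Agent.Tits.Roots Cfsg.Agent.Nodes.Reps
  Cfsg.Agent.Nodes.BNOf Cfsg.Agent.Nodes.Bruhat Cfsg.Agent.H684.OQ
open Cfsg.Agent.Nodes.RGDTypeA Cfsg.Agent.Nodes.RootsA
open Cfsg.Agent.LieRecognition.BNCox (cA)
open Cfsg.Agent.TitsThree.KSideA (tv tv_of_ne tv_add tv_zero tv_neg tv_comm tv_commute)
open Cfsg.Agent.OddHalf.NI.ClosedSL (emb emb_up emb_lo emb_dg)

universe u

namespace Psl

variable {n : ℕ} {F : Type u} [Field F]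

theorem emb_uu {a b : Fin (n + 1)} (hab : a ≠ b) (t : F) : emb hab (uu t) = tv a b t := emb_up hab t

theorem emb_ll {a b : Fin (n + 1)} (hab : a ≠ b) (t : F) : emb hab (ll t) = tv b a t := emb_lo hab t

theorem emb_dd {a b : Fin (n + 1)} (hab : a ≠ b) (c : Fˣ) : (emb hab (dd c)).1 =
    diagonal fun i => if i = a then (c : F) else if i = b then ((c⁻¹ : Fˣ) : F) else 1 := emb_dg hab c

theorem mono_dd {a b : Fin (n + 1)} (hab : a ≠ b) (c : Fˣ) : Mono 1 (emb hab (dd c)) := by
  intro i j h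
  rw [emb_dd] at h
  by_contra hij
  exact h (diagonal_apply_ne _ hij)

theorem emb_ww {a b : Fin (n + 1)} (hab : a ≠ b) : emb (F := F) hab ww = nn a b 1 := by
  rw [ww_eq, map_mul, map_mul, emb_uu, emb_ll]
  unfold nn
  rw [inv_one]

theorem ns_eq (i : Fin n) : ns n F i = emb (F := F) (Fin.castSucc_lt_succ (i := i)).ne ww := by
  rw [emb_ww]
  rfl

theorem ns_sq (i : Fin n) : ns n F i ^ 2 = emb (F := F) (Fin.castSucc_lt_succ (i := i)).ne (dd (-1)) := by
  rw [ns_eq, ← map_pow, ww_sq]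

/-- the sign of `c` in `n_i ^ 2` -/
def sg (F : Type u) [Field F] (i : Fin n) (c : Fin (n + 1)) : F := if c = i.castSucc ∨ c = i.succ then -1 else 1

theorem sq_apply (i : Fin n) (c : Fin (n + 1)) : (ns n F i ^ 2).1 c c = sg F i c := by
  rw [ns_sq, emb_dd, diagonal_apply_eq, sg]
  by_cases h1 : c = i.castSucc
  · simp [h1]
  · by_cases h2 : c = i.succ
    · simp [h2]
    · simp [h1, h2]

theorem sq_conj (i : Fin n) {a b : Fin (n + 1)} (hab : a ≠ b) (t : F) :
    ns n F i ^ 2 * tv a b t * (ns n F i ^ 2)⁻¹ = tv a b (sg F i a * t * (sg F i b)⁻¹) := by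
  have hm : Mono 1 (ns n F i ^ 2) := by
    rw [ns_sq]
    exact mono_dd _ _
  have h1 := hm.conj_tv hab t
  simp only [Equiv.Perm.coe_one, id_eq] at h1
  rw [h1, sq_apply, sq_apply]

theorem par {A : Fin n → Fin n → ℤ} (h : IsCartan (cA n) A) (i : Fin n) (a b : Fin (n + 1)) :
    Even (pairing A i (rtA a b)) ↔ ((a = i.castSucc ∨ a = i.succ) ↔ (b = i.castSucc ∨ b = i.succ)) := by
  have ha := a.2
  have hb := b.2
  have hi := i.2
  have hp := pairing_eq h i
    (fun k => (if a.val ≤ k then 1 else 0) - (if b.val ≤ k then 1 else 0))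
    (by rw [if_pos (by omega), if_pos (by omega), sub_self])
  have e1 : (fun k : Fin n => (fun k : ℕ => ((if a.val ≤ k then 1 else 0) -
      (if b.val ≤ k then 1 else 0) : ℤ)) k.val) = rtA a b := rfl
  rw [e1] at hp
  rw [hp]
  have ea : (a = i.castSucc ∨ a = i.succ) ↔ (a.val = i.val ∨ a.val = i.val + 1) := by
    rw [Fin.ext_iff, Fin.ext_iff, Fin.val_castSucc, Fin.val_succ]
  have eb : (b = i.castSucc ∨ b = i.succ) ↔ (b.val = i.val ∨ b.val = i.val + 1) := by
    rw [Fin.ext_iff, Fin.ext_iff, Fin.val_castSucc, Fin.val_succ]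
  rw [ea, eb, Int.even_iff]
  split_ifs <;> constructor <;> intro h1 <;> omega

theorem tv_center {a b : Fin (n + 1)} (hab : a ≠ b) {t : F} (ht : pr n F (tv a b t) = 1) : t = 0 := by
  have h1 : tv a b t ∈ Subgroup.center (SpecialLinearGroup (Fin (n + 1)) F) := by
    rw [← ker_pr]; exact ht
  obtain ⟨r, hr, e⟩ := Matrix.SpecialLinearGroup.mem_center_iff.1 h1
  have h2 := congrFun (congrFun (show (Matrix.scalar (Fin (n + 1))) r = (tv a b t).1 from e) a) b
  rw [Matrix.scalar_apply, diagonal_apply_ne _ hab, tv_val hab, Matrix.add_apply, Matrix.one_apply_ne hab,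
    Matrix.single_apply_same, zero_add] at h2
  exact h2.symm

/-- **the input for `PSL_{n+1}(F)`, `n ≥ 2`** -/
theorem hasIn_psl [Finite F] (hn : 2 ≤ n) (h2 : (2 : F) ≠ 0) (p : ℕ) [CharP F p] :
    HasIn p (cA n) (ProjectiveSpecialLinearGroup (Fin (n + 1)) F) := by
  have hpp : p.Prime := CharP.char_is_prime F p
  have : Fact p.Prime := ⟨hpp⟩
  have hp2 : p ≠ 2 := by
    rintro rfl
    exact h2 (by exact_mod_cast CharP.cast_eq_zero F 2)
  have hW : Finite (cA n).Group := finite_W (cA n).toCoxeterSystem (isCartan n)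
  have hne : ∀ i : Fin n, i.castSucc ≠ i.succ := fun i => (Fin.castSucc_lt_succ (i := i)).ne
  refine ⟨AA n, isCartan n, _, _, _, hW, in_of_sq (rgd_psl (p := p) _ (isCartan n)) hpp hp2 (G1_psl_eq_top _ _) ?_
    ⟨fun i => ?_, fun i x hx he y hy => ?_, fun i x hx he y hy => ?_⟩ ?_ fun i => ?_⟩
  · rintro _ ⟨a, ha, rfl⟩ _ ⟨b, hb, rfl⟩
    rw [← map_mul, ← map_mul]
    congr 1
    have ha' : Mono 1 a := ha
    have hb' : Mono 1 b := hb
    have key : ∀ g : SpecialLinearGroup (Fin (n + 1)) F, Mono 1 g → g.1 = diagonal fun c => g.1 c c := by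
      intro g hg
      ext i j
      by_cases hij : i = j
      · subst hij; rw [diagonal_apply_eq]
      · rw [diagonal_apply_ne _ hij]
        by_contra hcon
        exact hij (hg i j hcon)
    apply Subtype.ext
    show a.1 * b.1 = b.1 * a.1
    rw [key a ha', key b hb', diagonal_mul_diagonal, diagonal_mul_diagonal]
    congr 1
    funext c
    exact mul_comm _ _
  · rw [← map_pow, ← map_pow, ns_eq, ← map_pow, ← map_pow, ww_sq_sq, map_one, map_one]
  · obtain ⟨a, b, hab, rfl⟩ := exists_of_isRoot _ _ hx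
    obtain ⟨y, hy, rfl⟩ := hy
    rw [X_rtA hab] at hy
    obtain ⟨t, rfl⟩ := hy
    rw [← mul_inv_eq_iff_eq_mul, ← map_pow, ← map_mul, ← map_inv, ← map_mul, sq_conj i hab]
    have h3 := (par (isCartan n) i a b).1 he
    have h4 : sg F i a * t * (sg F i b)⁻¹ = t := by
      unfold sg
      by_cases h5 : a = i.castSucc ∨ a = i.succ
      · rw [if_pos h5, if_pos (h3.1 h5)]
        norm_num
      · rw [if_neg h5, if_neg fun h6 => h5 (h3.2 h6)]
        norm_num
    rw [h4]
  · obtain ⟨a, b, hab, rfl⟩ := exists_of_isRoot _ _ hx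
    obtain ⟨y, hy, rfl⟩ := hy
    rw [X_rtA hab] at hy
    obtain ⟨t, rfl⟩ := hy
    rw [← map_pow, ← map_mul, ← map_inv, ← map_mul, sq_conj i hab, ← map_inv]
    have h3 := mt (par (isCartan n) i a b).2 he
    have h4 : sg F i a * t * (sg F i b)⁻¹ = -t := by
      unfold sg
      by_cases h5 : a = i.castSucc ∨ a = i.succ
      · rw [if_pos h5, if_neg fun h6 => h3 ⟨fun _ => h6, fun _ => h5⟩]
        norm_num
      · have h6 : b = i.castSucc ∨ b = i.succ := by
          by_contra h6
          exact h3 ⟨fun h7 => absurd h7 h5, fun h7 => absurd h7 h6⟩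
        rw [if_neg h5, if_pos h6]
        norm_num
    rw [h4, tv_neg]
  · intro j
    by_cases hj : (j : ℕ) + 1 < n
    · refine ⟨⟨j + 1, hj⟩, ?_⟩
      unfold AA
      rw [if_neg (fun e => by have := congrArg Fin.val e; simp at this), if_pos (Or.inr rfl)]
      decide
    · have hj' := j.2
      refine ⟨⟨j - 1, by omega⟩, ?_⟩
      unfold AA
      rw [if_neg (fun e => by have := congrArg Fin.val e; simp at this; omega), if_pos (Or.inl (by simp; omega))]
      decide
  · refine slNode_of_sl2 ((pr n F).comp (emb (hne i))) ?_ (fun c => ?_) (fun g => ?_) fun t ht => ?_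
    · show pr n F (ns n F i) = _
      rw [ns_eq]
      rfl
    · exact Subgroup.mem_map_of_mem _ (mono_dd (hne i) c)
    · show g ∈ (X F (sr i)).map (pr n F) ↔ _
      rw [X_sr]
      constructor
      · rintro ⟨_, ⟨t, rfl⟩, rfl⟩
        exact ⟨t, by rw [MonoidHom.comp_apply, emb_uu]⟩
      · rintro ⟨t, rfl⟩
        exact ⟨tv _ _ t, ⟨t, rfl⟩, by rw [MonoidHom.comp_apply, emb_uu]⟩
    · rw [MonoidHom.comp_apply, emb_uu] at ht
      exact tv_center (hne i) ht

end Psl

end Cfsg.Agent.H310.OQ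

private theorem dce_d461c5f1fe59 : _root_.True := by
  try have : _root_.True := by simp only [_root_.Cfsg.Agent.H310.OQ.Psl.sg.eq_1]
  exact _root_.True.intro
end
end
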